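import Cfsg.Agent.SpSixStd.Codes

/-!
The checks for the first class.
-/

set_option autoImplicit false
set_option maxRecDepth 100000
set_option maxHeartbeats 20000000
set_option Elab.async false

namespace Cfsg.Lib.SpSixStd

open Cfsg.Lib.SpCentre.Code (prodC repSet mul one)

theorem rep1 : codeW cls1.xw = prodC (repSet 1) := by decide +kernel

theorem closed1 : closedOK cls1 = true := by decide +kernel

theorem down1 : downOK cls1 = true := by decide +kernel

theorem size1 : sizeOK cls1 = true := by decide +kernel

theorem syl1 : sylOK cls1 = true := by decide +kernel

theorem comm1 : commOK cls1 = true := by decide +kernel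

theorem good1 : Good cls1 1 := ⟨rep1, closed1, down1, size1, syl1, comm1⟩

theorem gens_sq : ∀ g : Fin 7, mul (codeW [g.val]) (codeW [g.val]) = one := by decide +kernel

end Cfsg.Lib.SpSixStd
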