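import Cfsg.Agent.SpSixStd.Codes

/-!
The checks for the second class.
-/

set_option autoImplicit false
set_option maxRecDepth 100000
set_option maxHeartbeats 20000000
set_option Elab.async false

namespace Cfsg.Lib.SpSixStd

open Cfsg.Lib.SpCentre.Code (prodC repSet mul one)

theorem rep2 : codeW cls2.xw = prodC (repSet 2) := by decide +kernel

theorem closed2 : closedOK cls2 = true := by decide +kernel

theorem down2 : downOK cls2 = true := by decide +kernel

theorem size2 : sizeOK cls2 = true := by decide +kernel

theorem syl2 : sylOK cls2 = true := by decide +kernel

theorem comm2 : commOK cls2 = true := by decide +kernel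

theorem good2 : Good cls2 2 := ⟨rep2, closed2, down2, size2, syl2, comm2⟩

end Cfsg.Lib.SpSixStd
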