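import Cfsg.Agent.SpSixStd.Codes

/-!
The checks for the third class.
-/

set_option autoImplicit false
set_option maxRecDepth 100000
set_option maxHeartbeats 20000000
set_option Elab.async false

namespace Cfsg.Lib.SpSixStd

open Cfsg.Lib.SpCentre.Code (prodC repSet mul one)

theorem rep3 : codeW cls3.xw = prodC (repSet 3) := by decide +kernel

theorem closed3 : closedOK cls3 = true := by decide +kernel

theorem down3 : downOK cls3 = true := by decide +kernel

theorem size3 : sizeOK cls3 = true := by decide +kernel

theorem syl3 : sylOK cls3 = true := by decide +kernel

theorem comm3 : commOK cls3 = true := by decide +kernel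

theorem good3 : Good cls3 3 := ⟨rep3, closed3, down3, size3, syl3, comm3⟩

end Cfsg.Lib.SpSixStd
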