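import Cfsg.Agent.SpSixStd.Codes

/-!
The checks for the fourth class.
-/

set_option autoImplicit false
set_option maxRecDepth 100000
set_option maxHeartbeats 20000000
set_option Elab.async false

namespace Cfsg.Lib.SpSixStd

open Cfsg.Lib.SpCentre.Code (prodC repSet mul one)

theorem rep4 : codeW cls4.xw = prodC (repSet 4) := by decide +kernel

theorem closed4 : closedOK cls4 = true := by decide +kernel

theorem down4 : downOK cls4 = true := by decide +kernel

theorem size4 : sizeOK cls4 = true := by decide +kernel

theorem syl4 : sylOK cls4 = true := by decide +kernel

theorem comm4 : commOK cls4 = true := by decide +kernel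

theorem good4 : Good cls4 4 := ⟨rep4, closed4, down4, size4, syl4, comm4⟩

end Cfsg.Lib.SpSixStd
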