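import Mathlib

/-!
Two properties of an element of a cover with central involution, and their transport.
-/

set_option autoImplicit false

namespace Cfsg.Lib.SpSixStd

variable {H H' : Type*} [Group H] [Group H']

/-- No subgroup invariant under the centraliser of `x` and avoiding `z` has odd elements. -/
def OddFact (z x : H) : Prop :=
  ∀ N : Subgroup H, (∀ n ∈ N, n * x = x * n) → (∀ c, c * x = x * c → ∀ n ∈ N, c * n * c⁻¹ ∈ N) → z ∉ N →
    ∀ n ∈ N, Odd (orderOf n) → n = 1

/-- The elements centralising `x` up to `z` and its odd centraliser are few. -/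
def CommFact (z x : H) : Prop :=
  ∀ e : H, (e * x = x * e ∨ e * x = x * e * z) →
    (∀ a : H, Odd (orderOf a) → a * x = x * a → a * e = e * a) →
    e ≠ 1 → e ≠ z → e ≠ x → e ≠ x * z →
    (e * e ≠ x ∧ e * e ≠ x * z) ∧ ∃ u : H, u * e = e * u ∧ u * x ≠ x * u

theorem OddFact.of_equiv (φ : H ≃* H') {z x : H} (h : OddFact (φ z) (φ x)) : OddFact z x := by
  intro N hNx hNc hz n hn hodd
  have := h (N.map φ.toMonoidHom) ?_ ?_ ?_ (φ n) ⟨n, hn, rfl⟩ (by rwa [MulEquiv.orderOf_eq])
  · exact φ.injective (by rw [this, map_one])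
  · rintro _ ⟨m, hm, rfl⟩
    show φ m * φ x = φ x * φ m
    rw [← map_mul, hNx m hm, map_mul]
  · rintro c hc _ ⟨m, hm, rfl⟩
    obtain ⟨d, rfl⟩ := φ.surjective c
    exact ⟨_, hNc d (φ.injective (by rw [map_mul, map_mul, hc])) m hm, by simp⟩
  · rintro ⟨m, hm, e⟩
    exact hz (φ.injective e ▸ hm)

theorem CommFact.of_equiv (φ : H ≃* H') {z x : H} (h : CommFact (φ z) (φ x)) : CommFact z x := by
  intro e he ha h1 hz hx hxz
  obtain ⟨⟨q1, q2⟩, u, hu1, hu2⟩ := h (φ e) (by simpa [← map_mul] using he) (fun a hao hax => by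
      obtain ⟨b, rfl⟩ := φ.surjective a
      rw [← map_mul, ha b (by rwa [MulEquiv.orderOf_eq] at hao) (φ.injective (by rw [map_mul, map_mul, hax])),
        map_mul])
    (by simpa using h1) (fun q => hz (φ.injective q)) (fun q => hx (φ.injective q))
    (fun q => hxz (φ.injective (by rw [q, map_mul])))
  obtain ⟨v, rfl⟩ := φ.surjective u
  refine ⟨⟨fun q => q1 (by rw [← map_mul, q]), fun q => q2 (by rw [← map_mul, q, map_mul])⟩,
    v, φ.injective (by rw [map_mul, map_mul, hu1]), fun q => hu2 (by rw [← map_mul, q, map_mul])⟩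

theorem OddFact.of_mul {z x : H} (hc : ∀ g : H, g * z = z * g) (h : OddFact z (x * z)) : OddFact z x := by
  intro N hNx hNc hz
  refine h N (fun n hn => ?_) (fun c hc' n hn => hNc c ?_ n hn) hz
  · rw [← mul_assoc, hNx n hn, mul_assoc, hc n, ← mul_assoc]
  · rw [← mul_assoc, mul_assoc x z c, ← hc c, ← mul_assoc] at hc'
    exact mul_right_cancel hc'

theorem CommFact.of_mul {z x : H} (hz2 : z * z = 1) (hc : ∀ g : H, g * z = z * g) (h : CommFact z (x * z)) :
    CommFact z x := by
  have hiff : ∀ c : H, c * (x * z) = x * z * c ↔ c * x = x * c := fun c => by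
    rw [← mul_assoc, mul_assoc x z c, ← hc c, ← mul_assoc]
    exact mul_left_inj z
  intro e he ha h1 hz hx hxz
  have hxzz : x * z * z = x := by rw [mul_assoc, hz2, mul_one]
  have he' : e * (x * z) = x * z * e ∨ e * (x * z) = x * z * e * z := by
    rcases he with q | q
    · exact Or.inl ((hiff e).2 q)
    · refine Or.inr ?_
      calc e * (x * z) = e * x * z := (mul_assoc _ _ _).symm
        _ = x * (e * z) * z := by rw [q, mul_assoc x e z]
        _ = x * z * e * z := by rw [hc e]; group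
  obtain ⟨⟨q1, q2⟩, u, hu1, hu2⟩ := h e he' (fun a hao hax => ha a hao ((hiff a).1 hax)) h1 hz hxz (by rwa [hxzz])
  exact ⟨⟨hxzz ▸ q2, q1⟩, u, hu1, fun q => hu2 ((hiff u).2 q)⟩

end Cfsg.Lib.SpSixStd
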