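import Cfsg.Agent.SpSixStd.Centralizer
import Cfsg.Agent.SpSixStd.Facts

/-!
The elements of the cover centralising an involution up to sign and its odd centraliser.
-/

set_option autoImplicit false
set_option maxRecDepth 8000
set_option linter.unusedSectionVars false

namespace Cfsg.Lib.SpSixStd

open Cfsg.Lib.SpSixTwo
open Cfsg.Lib.SpCentre.Code (rep pk ap mul one bform rep_mul rep_inj rep_one ap_rep actV_xor actV_zero pk_get form_actV)

theorem ap_zero (v : ℕ) : ap 0 v = 0 := by
  simp [ap, Cfsg.Lib.SpCentre.Code.term]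

theorem getD_cases (l : List ℕ) (i : ℕ) : l.getD i 0 ∈ l ∨ l.getD i 0 = 0 := by
  by_cases h : i < l.length
  · left; rw [List.getD_eq_getElem _ _ h]; exact List.getElem_mem _
  · right; exact List.getD_eq_default _ _ (Nat.le_of_not_lt h)

theorem getD_map_zero (F : ℕ → ℕ) (h0 : F 0 = 0) : ∀ (l : List ℕ) (i : ℕ), (l.map F).getD i 0 = F (l.getD i 0)
  | [], i => by simp [h0]
  | a :: r, 0 => by simp
  | a :: r, i + 1 => by simpa using getD_map_zero F h0 r i

variable {f : Sp} {o img : List ℕ} (ho : ∀ c ∈ o, ∀ v < 64, ap c v < 64 ∧ actV f (ap c v) = ap c (actV f v))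

include ho

theorem appW_comm : ∀ (w : List ℕ) {v : ℕ}, v < 64 →
    appW o w v < 64 ∧ actV f (appW o w v) = appW o w (actV f v)
  | [], v, hv => ⟨hv, rfl⟩
  | i :: w, v, hv => by
    obtain ⟨h1, h2⟩ := appW_comm w hv
    have e1 : ∀ u, appW o (i :: w) u = ap (o.getD i 0) (appW o w u) := fun u => rfl
    rw [e1, e1, ← h2]
    rcases getD_cases o i with h | h
    · exact ho _ h _ h1
    · rw [h, ap_zero, ap_zero]; exact ⟨by norm_num, actV_zero f⟩

theorem evalU_comm (himg : ∀ a ∈ img, a < 64) : ∀ l : List (List ℕ × ℕ),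
    evalU o img l < 64 ∧ actV f (evalU o img l) = evalU o (img.map (actV f)) l
  | [] => ⟨by simp [evalU], by simp [evalU, actV_zero]⟩
  | p :: r => by
    obtain ⟨h1, h2⟩ := evalU_comm himg r
    have hv : img.getD p.2 0 < 64 := by
      rcases getD_cases img p.2 with h | h
      · exact himg _ h
      · omega
    obtain ⟨h3, h4⟩ := appW_comm ho p.1 hv
    have e1 : ∀ im, evalU o im (p :: r) = appW o p.1 (im.getD p.2 0) ^^^ evalU o im r := fun im => rfl
    rw [e1, e1, getD_map_zero _ (actV_zero f), ← h2, ← h4]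
    exact ⟨Nat.xor_lt_two_pow (n := 6) h3 h1, actV_xor f h3 h1⟩

omit ho

/-- **The commuting part.** -/
theorem commFact_of {C : Cls} (hx1 : proj (el C.xw) ≠ 1) (hcomm : commOK C = true) :
    CommFact negC (el C.xw) := by
  simp only [commOK, Bool.and_eq_true, Bool.or_eq_true, beq_iff_eq, bne_iff_ne, List.all_eq_true,
    List.any_eq_true, Nat.blt_eq, Bool.not_eq_true', List.mem_range] at hcomm
  obtain ⟨⟨⟨⟨hodd, hmods⟩, hunits⟩, hrows⟩, hcand⟩ := hcomm
  intro e he ha h1 hz hx hxz
  set f := proj e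
  have hfx : f * proj (el C.xw) = proj (el C.xw) * f := by
    rcases he with q | q
    · rw [← map_mul, q, map_mul]
    · rw [← map_mul, q, map_mul, map_mul, proj_negC, mul_one]
  have hops : ∀ c ∈ ops C, ∃ g : Sp, rep g = c ∧ f * g = g * f := by
    intro c hc
    rcases List.mem_cons.1 hc with rfl | hc
    · exact ⟨_, rep_el _, hfx⟩
    · obtain ⟨a, haC, rfl⟩ := List.mem_map.1 hc
      obtain ⟨⟨hk, hpow⟩, hcx⟩ := hodd a haC
      refine ⟨_, rep_el _, ?_⟩
      have hord : Odd (orderOf (el a.1)) := by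
        refine Odd.of_dvd_nat (Nat.odd_iff.2 hk) (orderOf_dvd_of_pow_eq_one ?_)
        rw [← el_rpw, ← el_nil]; exact el_eq_iff.2 hpow
      rw [← map_mul, ← ha _ hord (comm_of_key hcx), map_mul]
  have ho : ∀ c ∈ ops C, ∀ v < 64, ap c v < 64 ∧ actV f (ap c v) = ap c (actV f v) := by
    intro c hc v hv
    obtain ⟨g, rfl, hfg⟩ := hops c hc
    rw [ap_rep g hv, ap_rep g (actV_lt f v), ← actV_mul, ← actV_mul, hfg]
    exact ⟨actV_lt g v, rfl⟩
  set img := C.mods.map (actV f) with himg
  have hcode : candC C img = rep f := by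
    have hu : ∀ i < 6, evalU (ops C) img (C.units.getD i []) = actV f (2 ^ i) := fun i hi => by
      rw [← (evalU_comm ho hmods _).2, hunits i hi]
    simp only [candC, rep, pk, hu 0 (by norm_num), hu 1 (by norm_num), hu 2 (by norm_num), hu 3 (by norm_num),
      hu 4 (by norm_num), hu 5 (by norm_num)]
    rfl
  have hlen : img.length = C.mods.length := List.length_map _
  have hmem : img ∈ imgs C.mods.length := hlen ▸ mem_imgs fun a ha' => by
    obtain ⟨v, -, rfl⟩ := List.mem_map.1 ha'
    exact actV_lt f v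
  have hmulcomm : (ops C).all (fun o => mul (candC C img) o == mul o (candC C img)) = true := by
    refine List.all_eq_true.2 fun c hc => ?_
    obtain ⟨g, rfl, hfg⟩ := hops c hc
    rw [beq_iff_eq, hcode, ← rep_mul, ← rep_mul, hfg]
  have hsymp : sympC (candC C img) = true := by
    simp only [sympC, List.all_eq_true, List.mem_range, beq_iff_eq, hcode]
    intro a ha' b hb
    rw [rep, pk_get _ (actV_lt f) ha', pk_get _ (actV_lt f) hb,
      form_actV f (Nat.pow_lt_pow_right (by norm_num) ha') (Nat.pow_lt_pow_right (by norm_num) hb)]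
  have hneg : ∀ d : cover, proj e = proj d → e = d ∨ e = d * negC := by
    intro d hd
    rcases ker_eq.1 (show d⁻¹ * e ∈ proj.ker by rw [MonoidHom.mem_ker, map_mul, map_inv, hd, inv_mul_cancel]) with q | q
    · exact Or.inl (inv_mul_eq_one.1 q).symm
    · exact Or.inr (inv_mul_eq_iff_eq_mul.1 q)
  have h := hcand img hmem
  rw [hmulcomm, hsymp, hcode] at h
  rcases h with ((((q | q) | q) | q) | ⟨r, hr, q⟩)
  · simp at q
  · simp at q
  · exfalso
    rcases hneg 1 (by rw [map_one]; exact rep_inj (q.trans rep_one.symm)) with p | p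
    · exact h1 p
    · exact hz (by rw [p, one_mul])
  · exfalso
    rcases hneg (el C.xw) (rep_inj (q.trans (rep_el _).symm)) with p | p
    · exact hx p
    · exact hxz p
  obtain ⟨⟨hsq, hwc⟩, hwx⟩ := hrows r hr
  have hpe : proj e = proj (el r.1) := rep_inj (q.trans (rep_el _).symm)
  have hee : proj (e * e) = 1 := by
    rw [map_mul, hpe]
    exact rep_inj (by rw [rep_mul, rep_el, hsq, rep_one])
  refine ⟨⟨fun p => hx1 (by rw [← p]; exact hee), fun p => hx1 ?_⟩, el r.2, ?_, fun p => hwx (key_of_comm p)⟩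
  · rw [p, map_mul, proj_negC, mul_one] at hee
    exact hee
  · rcases hneg _ hpe with p | p
    · rw [p]; exact comm_of_key hwc
    · rw [p, ← mul_assoc, comm_of_key hwc, mul_assoc, mul_assoc,
        ((Subgroup.mem_center_iff.1 (ker_central (show negC ∈ proj.ker from proj_negC))) (el r.2))]

end Cfsg.Lib.SpSixStd
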