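import Cfsg.Agent.SpSixStd.OddPart
import Cfsg.Agent.SpSixStd.CommPart
import Cfsg.Agent.SpSixStd.Checks1
import Cfsg.Agent.SpSixStd.Checks2
import Cfsg.Agent.SpSixStd.Checks3
import Cfsg.Agent.SpSixStd.Checks4
import Cfsg.Agent.SpSixTwo.Mult
import Cfsg.Agent.S0814
import Cfsg.Agent.CoThreeRecog.Cover

/-!
The double cover of the symplectic group of degree six over two elements: centre, automorphisms and the
two properties of its involutions modulo the centre.
-/

set_option autoImplicit false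
set_option maxRecDepth 8000
set_option linter.unusedSectionVars false
set_option linter.style.haveILetI false

namespace Cfsg.Lib.SpSixStd

open Cfsg.Lib.SpSixTwo
open Cfsg.Lib.SpCentre.Code (prodS repSet rep rep_inj rep_prod rep_lt cx classify)

theorem negC_sq : negC * negC = 1 := by
  rcases ker_eq.1 (mul_mem (show negC ∈ proj.ker from proj_negC) proj_negC) with h | h
  · exact h
  · exact absurd (mul_eq_left.1 h) negC_ne_one

theorem negC_comm (g : cover) : g * negC = negC * g :=
  Subgroup.mem_center_iff.1 (ker_central (show negC ∈ proj.ker from proj_negC)) g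

/-- Conjugation preserves the two facts. -/
theorem facts_conj {x : cover} (k : cover) (h : OddFact negC (k * x * k⁻¹) ∧ CommFact negC (k * x * k⁻¹)) :
    OddFact negC x ∧ CommFact negC x := by
  have hz : MulAut.conj k negC = negC := by rw [MulAut.conj_apply, negC_comm, mul_inv_cancel_right]
  exact ⟨OddFact.of_equiv (MulAut.conj k) (by rw [hz]; exact h.1),
    CommFact.of_equiv (MulAut.conj k) (by rw [hz]; exact h.2)⟩

theorem facts_of_good {C : Cls} {j : ℕ} (h : Good C j) (hx : proj (el C.xw) ≠ 1) :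
    OddFact negC (el C.xw) ∧ CommFact negC (el C.xw) :=
  ⟨oddFact_of gens_sq h.2.2.1 h.2.1 h.2.2.2.1 h.2.2.2.2.1, commFact_of hx h.2.2.2.2.2⟩

/-- **The involutions modulo the centre.** -/
theorem cover_facts {x : cover} (h1 : x ≠ 1) (hz : x ≠ negC) (h2 : x * x = 1 ∨ x * x = negC) :
    OddFact negC x ∧ CommFact negC x := by
  have hp2 : proj x * proj x = 1 := by
    rw [← map_mul]
    rcases h2 with h | h <;> rw [h]
    · exact map_one _
    · exact proj_negC
  have hp1 : proj x ≠ 1 := fun h => (ker_eq.1 h).elim h1 hz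
  obtain ⟨hlt, hzero, ⟨k, hk⟩, -, -⟩ := classify hp2
  obtain ⟨C, hC⟩ : ∃ C, Good C (cx (proj x)) := by
    have h0 : cx (proj x) ≠ 0 := fun h => hp1 (hzero h)
    obtain ⟨j, hj⟩ : ∃ j, j = cx (proj x) := ⟨_, rfl⟩
    rw [← hj] at hlt h0 ⊢
    interval_cases j
    exacts [absurd rfl h0, ⟨_, good1⟩, ⟨_, good2⟩, ⟨_, good3⟩, ⟨_, good4⟩]
  have hpx : proj (el C.xw) = k * proj x * k⁻¹ :=
    rep_inj (by rw [rep_el, hC.1, hk, rep_prod (rep_lt ⟨_, hlt⟩)])
  have hne : proj (el C.xw) ≠ 1 := by rw [hpx]; exact fun h => hp1 (conj_eq_one_iff.1 h)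
  obtain ⟨g, rfl⟩ := proj_surjective k
  refine facts_conj g ?_
  have hker : (g * x * g⁻¹)⁻¹ * el C.xw ∈ proj.ker := by
    rw [MonoidHom.mem_ker, map_mul, map_inv, map_mul, map_mul, map_inv, hpx, inv_mul_cancel]
  have hf := facts_of_good hC hne
  rcases ker_eq.1 hker with e | e
  · rw [inv_mul_eq_one.1 e]; exact hf
  · rw [inv_mul_eq_iff_eq_mul.1 e] at hf
    exact ⟨hf.1.of_mul negC_comm, hf.2.of_mul negC_sq negC_comm⟩

theorem center_sp : Subgroup.center Sp = ⊥ := by
  refine Subgroup.eq_bot_of_card_eq _ ?_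
  rw [Cfsg.Lib.Classical.card_center_symplecticGroup (by norm_num), Nat.card_zmod]
  rfl

theorem cover_center {g : cover} (hg : g ∈ Subgroup.center cover) : g = 1 ∨ g = negC := by
  refine ker_eq.1 ?_
  rw [MonoidHom.mem_ker, ← Subgroup.mem_bot, ← center_sp]
  exact Subgroup.mem_center_iff.2 fun q => by
    obtain ⟨x, rfl⟩ := proj_surjective q
    rw [← map_mul, Subgroup.mem_center_iff.1 hg x, map_mul]

/-- The symplectic group is the projective one. -/
noncomputable def toPSp (F : Type*) [Field F] [Fintype F] (hF : Fintype.card F = 2) : Sp ≃* Cfsg.PSp 3 F :=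
  MulEquiv.ofBijective
    ((QuotientGroup.mk' (Subgroup.center (Matrix.symplecticGroup (Fin 3) F))).comp
      (mapSp (ZMod.ringEquivOfPrime F Nat.prime_two hF))) (by
    have hz : Subgroup.center (Matrix.symplecticGroup (Fin 3) F) = ⊥ := by
      refine Subgroup.eq_bot_of_card_eq _ ?_
      rw [Cfsg.Lib.Classical.card_center_symplecticGroup (by norm_num), Nat.card_eq_fintype_card (α := F), hF]
      rfl
    refine ⟨fun a b h => ?_, (QuotientGroup.mk'_surjective _).comp (mapSp_bijective _).2⟩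
    refine (mapSp_bijective (ZMod.ringEquivOfPrime F Nat.prime_two hF)).1 ?_
    have h' := QuotientGroup.eq.1 h
    rw [hz, Subgroup.mem_bot] at h'
    exact inv_mul_eq_one.1 h')

theorem sp_aut_inner (φ : MulAut Sp) : ∃ k, MulAut.conj k = φ := by
  haveI : Fact (Nat.Prime 2) := ⟨Nat.prime_two⟩
  have h := Cfsg.Agent.S0814.result (F := ZMod 2) 2 1 le_rfl (by simp [ZMod.card]) 3 (by norm_num) (by norm_num)
  norm_num at h
  let e := toPSp (ZMod 2) (ZMod.card 2)
  have hcard : Nat.card (MulAut Sp) = Nat.card Sp := by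
    rw [Nat.card_congr (MulAut.congr e).toEquiv, h, Nat.card_congr e.toEquiv]
  haveI : Finite (MulAut Sp) := Nat.finite_of_card_ne_zero (by rw [hcard]; exact Nat.card_pos.ne')
  have hinj : Function.Injective (MulAut.conj : Sp →* MulAut Sp) := by
    rw [← MonoidHom.ker_eq_bot_iff, eq_bot_iff]
    intro a ha
    rw [← center_sp]
    exact Subgroup.mem_center_iff.2 fun b => by
      have hb : a * b * a⁻¹ = b := DFunLike.congr_fun (MonoidHom.mem_ker.1 ha) b
      exact (mul_inv_eq_iff_eq_mul.1 hb).symm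
  exact ((Nat.bijective_iff_injective_and_card _).2 ⟨hinj, hcard.symm⟩).2 φ

theorem cover_aut_inner (σ : cover ≃* cover) : ∃ w : cover, ∀ x, σ x = w * x * w⁻¹ := by
  have hker : ∀ g : cover, g ∈ proj.ker → σ g ∈ proj.ker := fun g hg => by
    have hc : σ g ∈ Subgroup.center cover := Subgroup.mem_center_iff.2 fun y => by
      obtain ⟨x, rfl⟩ := σ.surjective y
      rw [← map_mul, Subgroup.mem_center_iff.1 (ker_central hg) x, map_mul]
    exact ker_eq.2 (cover_center hc)
  set π : Sp →* Sp := proj.liftOfSurjective proj_surjective ⟨proj.comp σ.toMonoidHom, hker⟩ with hπ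
  have hspec : ∀ x, π (proj x) = proj (σ x) := fun x => proj.liftOfRightInverse_comp_apply _ _ _ x
  have hs : Function.Surjective π := fun q => by
    obtain ⟨y, rfl⟩ := proj_surjective q
    exact ⟨proj (σ.symm y), by rw [hspec, σ.apply_symm_apply]⟩
  set φ : MulAut Sp := MulEquiv.ofBijective π (Finite.surjective_iff_bijective.mp hs)
  obtain ⟨q, hq⟩ := sp_aut_inner φ
  obtain ⟨w, rfl⟩ := proj_surjective q
  refine ⟨w, fun x => ?_⟩
  have hmem : ∀ y, (w * y * w⁻¹)⁻¹ * σ y ∈ proj.ker := fun y => by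
    rw [MonoidHom.mem_ker, map_mul, map_inv, map_mul, map_mul, map_inv, inv_mul_eq_one]
    exact (congrArg (fun f : MulAut Sp => f (proj y)) hq).trans (hspec y)
  let χ : cover →* proj.ker :=
    { toFun := fun y => ⟨(w * y * w⁻¹)⁻¹ * σ y, hmem y⟩
      map_one' := Subtype.ext (by simp)
      map_mul' := fun a b => Subtype.ext (by
        have hc : Commute (w * b * w⁻¹)⁻¹ ((w * a * w⁻¹)⁻¹ * σ a) := Subgroup.mem_center_iff.1 (ker_central (hmem a)) _
        show (w * (a * b) * w⁻¹)⁻¹ * σ (a * b) = (w * a * w⁻¹)⁻¹ * σ a * ((w * b * w⁻¹)⁻¹ * σ b)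
        rw [map_mul, ← mul_assoc ((w * a * w⁻¹)⁻¹ * σ a), ← hc.eq]
        group) }
  have hle : commutator cover ≤ χ.ker := by
    rw [commutator_def, Subgroup.commutator_le]
    intro a _ b _
    rw [MonoidHom.mem_ker, map_commutatorElement, commutatorElement_eq_one_iff_mul_comm]
    exact Subtype.ext (Subgroup.mem_center_iff.1 (ker_central (χ b).2) _)
  have hx : x ∈ χ.ker := hle (cover_perfect.ge (Subgroup.mem_top x))
  exact ((inv_mul_eq_one).mp (congrArg Subtype.val (MonoidHom.mem_ker.mp hx))).symm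

end Cfsg.Lib.SpSixStd
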