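import Cfsg.Agent.SpSixStd.Pair
import Cfsg.Agent.SpSixStd.Facts
import Cfsg.Agent.InvolCalc.ZStarApps
import Cfsg.Prelude.Def_CaseTheorems
import Cfsg.Prelude.Def_Local

/-!
A standard double cover without outer automorphisms whose involutions satisfy the two facts is the whole
centraliser of its central involution, in a simple group with trivial odd core of that centraliser.
-/

set_option autoImplicit false
set_option linter.unusedSectionVars false
set_option linter.style.haveILetI false

namespace Cfsg.Lib.SpSixStd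

open Cfsg Subgroup

universe u v

variable {G : Type u} [Group G]

theorem mem_map_conj {K : Subgroup G} {g x : G} :
    x ∈ K.map (MulAut.conj g).toMonoidHom ↔ g⁻¹ * x * g ∈ K := by
  constructor
  · rintro ⟨a, ha, rfl⟩
    show g⁻¹ * (g * a * g⁻¹) * g ∈ K
    rwa [show g⁻¹ * (g * a * g⁻¹) * g = a by group]
  · exact fun h => ⟨_, h, by show g * (g⁻¹ * x * g) * g⁻¹ = x; group⟩

namespace Cov

/-- The image under conjugation. -/
def conj (A : Cov G) (g : G) : Cov G :=
  have hK : ∀ {x : G}, x ∈ centralizer ((A.L.map (MulAut.conj g).toMonoidHom : Subgroup G) : Set G) ↔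
      g⁻¹ * x * g ∈ centralizer (A.L : Set G) := by
    intro x
    simp only [mem_centralizer_iff, SetLike.mem_coe]
    constructor
    · intro h a ha
      have e := h (g * a * g⁻¹) (mem_map_conj.2 (by rwa [show g⁻¹ * (g * a * g⁻¹) * g = a by group]))
      calc a * (g⁻¹ * x * g) = g⁻¹ * ((g * a * g⁻¹) * x) * g := by group
        _ = g⁻¹ * (x * (g * a * g⁻¹)) * g := by rw [e]
        _ = _ := by group
    · intro h b hb
      have e := h _ (mem_map_conj.1 hb)
      calc b * x = g * ((g⁻¹ * b * g) * (g⁻¹ * x * g)) * g⁻¹ := by group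
        _ = g * ((g⁻¹ * x * g) * (g⁻¹ * b * g)) * g⁻¹ := by rw [e]
        _ = _ := by group
  let c : G → G := fun x => g⁻¹ * x * g
  have cm : ∀ a b, c (a * b) = c a * c b := fun a b => by simp only [c]; group
  have c1 : ∀ {x}, c x = 1 ↔ x = 1 := fun {x} => by
    constructor <;> intro h
    · calc x = g * c x * g⁻¹ := by simp only [c]; group
        _ = 1 := by rw [h]; group
    · simp [c, h]
  have ci : Function.Injective c := fun a b h => by simpa [c] using h
  have cz : c (g * A.z * g⁻¹) = A.z := by simp only [c]; group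
  have co : ∀ x, orderOf (c x) = orderOf x := fun x =>
    orderOf_injective (MulAut.conj g⁻¹).toMonoidHom (MulAut.conj g⁻¹).injective x |>.symm.trans
      (by simp [c]) |>.symm
  { L := A.L.map (MulAut.conj g).toMonoidHom
    z := g * A.z * g⁻¹
    z_mem := mem_map_conj.2 (by show c _ ∈ _; rw [cz]; exact A.z_mem)
    z_cen := hK.2 (by show c _ ∈ _; rw [cz]; exact A.z_cen)
    z_sq := ci (by rw [cm, cz, A.z_sq, c1.2 rfl])
    z_ne := fun h => A.z_ne (by rw [← cz, h, c1.2 rfl])
    inter := fun a ha hc => by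
      rcases A.inter _ (mem_map_conj.1 ha) (hK.1 hc) with h | h
      · exact Or.inl (c1.1 h)
      · exact Or.inr (ci (h.trans cz.symm))
    fac := fun n hn => by
      obtain ⟨a, ha, k, hk, e⟩ := A.fac (c n) (by rw [← cz, ← cm, ← cm, hn])
      refine ⟨g * a * g⁻¹, mem_map_conj.2 (by rwa [show g⁻¹ * (g * a * g⁻¹) * g = a by group]), g * k * g⁻¹,
        hK.2 (by rwa [show g⁻¹ * (g * k * g⁻¹) * g = k by group]), ci ?_⟩
      rw [cm, e]; simp only [c]; group
    tight := fun s hs h2 h1 x hx => ci (by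
      rw [cm x, cm _ x, cz]
      exact A.tight (c s) (hK.1 hs) (by rw [← cm, h2, c1.2 rfl]) (fun h => h1 (c1.1 h)) (c x)
        (by rw [← cm, ← cm, hx]))
    f_odd := fun x hx h1 hz h2 N hNL hNx hNc hzN n hn hodd => by
      refine c1.1 (A.f_odd (c x) (mem_map_conj.1 hx) (fun h => h1 (c1.1 h)) (fun h => hz (ci (h.trans cz.symm)))
        (h2.imp (fun h => by rw [← cm, h, c1.2 rfl]) (fun h => by rw [← cm, h, cz]))
        (N.comap (MulAut.conj g).toMonoidHom) ?_ ?_ ?_ ?_ (c n) ?_ (by rwa [co]))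
      · intro m hm
        have := mem_map_conj.1 (hNL hm)
        rwa [show g⁻¹ * ((MulAut.conj g).toMonoidHom m) * g = m by simp [mul_assoc]] at this
      · intro m hm
        have := congrArg c (hNx _ hm)
        rw [cm, cm] at this
        simpa [c, mul_assoc] using this
      · intro b hb hbx m hm
        have hb' : g * b * g⁻¹ ∈ A.L.map (MulAut.conj g).toMonoidHom :=
          mem_map_conj.2 (by rwa [show g⁻¹ * (g * b * g⁻¹) * g = b by group])
        have hbx' : g * b * g⁻¹ * x = x * (g * b * g⁻¹) := ci (by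
          rw [cm, cm]; simpa [c, mul_assoc] using hbx)
        have := hNc _ hb' hbx' _ hm
        show g * (b * m * b⁻¹) * g⁻¹ ∈ N
        simpa [mul_assoc] using this
      · exact hzN
      · show g * c n * g⁻¹ ∈ N
        simpa [c, mul_assoc] using hn
    f_comm := fun x hx h1 hz h2 e he hex hea e1 e2 e3 e4 => by
      obtain ⟨⟨q1, q2⟩, u, hu, hu1, hu2⟩ := A.f_comm (c x) (mem_map_conj.1 hx) (fun h => h1 (c1.1 h))
        (fun h => hz (ci (h.trans cz.symm))) (h2.imp (fun h => by rw [← cm, h, c1.2 rfl]) (fun h => by rw [← cm, h, cz]))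
        (c e) (mem_map_conj.1 he)
        (hex.imp (fun h => by rw [← cm, ← cm, h]) (fun h => by rw [← cm, h, cm, cm, cz]))
        (fun a ha hao hax => by
          have h : g * a * g⁻¹ * e = e * (g * a * g⁻¹) := by
            refine hea _ (mem_map_conj.2 (by rwa [show g⁻¹ * (g * a * g⁻¹) * g = a by group])) ?_ (ci ?_)
            · rwa [← co, show c (g * a * g⁻¹) = a by simp only [c]; group]
            · rw [cm (g * a * g⁻¹), cm x, show c (g * a * g⁻¹) = a by simp only [c]; group]; exact hax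
          have := congrArg c h
          rwa [cm (g * a * g⁻¹), cm e, show c (g * a * g⁻¹) = a by simp only [c]; group] at this)
        (fun h => e1 (c1.1 h)) (fun h => e2 (ci (h.trans cz.symm))) (fun h => e3 (ci h))
        (fun h => e4 (ci (by rw [h, cm, cz])))
      refine ⟨⟨fun h => q1 (by rw [← cm, h]), fun h => q2 (by rw [← cm, h, cm, cz])⟩, g * u * g⁻¹,
        mem_map_conj.2 (by rwa [show g⁻¹ * (g * u * g⁻¹) * g = u by group]), ci ?_, fun h => hu2 ?_⟩
      · rw [cm (g * u * g⁻¹), cm e, show c (g * u * g⁻¹) = u by simp only [c]; group]; exact hu1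
      · have := congrArg c h
        rwa [cm (g * u * g⁻¹), cm x, show c (g * u * g⁻¹) = u by simp only [c]; group] at this }

end Cov

/-- A standard subgroup that is a double cover without outer automorphisms. -/
theorem exists_cov (A : Subgroup G) (hA : IsStandardSubgroup A) {B : Type v} [Group B] (e : B ≃* A) (zc : B)
    (hz2 : zc * zc = 1) (hz1 : zc ≠ 1) (hzc : ∀ b, b * zc = zc * b)
    (hcen : ∀ b : B, (∀ y, y * b = b * y) → b = 1 ∨ b = zc)
    (inner : ∀ σ : B ≃* B, ∃ w : B, ∀ x, σ x = w * x * w⁻¹)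
    (facts : ∀ x : B, x ≠ 1 → x ≠ zc → (x * x = 1 ∨ x * x = zc) → OddFact zc x ∧ CommFact zc x) [Finite G] :
    ∃ V : Cov G, V.L = A ∧ normalizer (A : Set G) ≤ centralizer ({V.z} : Set G) ∧
      ∀ s ∈ centralizer (A : Set G), s * s = 1 → s ≠ 1 → ∀ g : G,
        g * s * g⁻¹ ∈ centralizer (A : Set G) → g * V.z = V.z * g := by
  set z : G := ((e zc : A) : G) with hz
  have hzA : z ∈ A := (e zc).2
  have z_comm : ∀ a ∈ A, a * z = z * a := fun a ha => by
    have h : e (e.symm ⟨a, ha⟩) * e zc = e zc * e (e.symm ⟨a, ha⟩) := by rw [← map_mul, hzc, map_mul]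
    rw [e.apply_symm_apply] at h
    exact congrArg Subtype.val h
  have hzK : z ∈ centralizer (A : Set G) := mem_centralizer_iff.2 z_comm
  have hzsq : z * z = 1 := by rw [hz, ← Subgroup.coe_mul, ← map_mul, hz2, map_one, OneMemClass.coe_one]
  have hzne : z ≠ 1 := fun h => hz1 (e.injective (by rw [map_one]; exact Subtype.ext h))
  have inter : ∀ a ∈ A, a ∈ centralizer (A : Set G) → a = 1 ∨ a = z := by
    intro a ha hc
    rcases hcen (e.symm ⟨a, ha⟩) (fun y => e.injective (by
      rw [map_mul, map_mul, e.apply_symm_apply]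
      exact Subtype.ext (mem_centralizer_iff.1 hc _ (e y).2))) with h | h
    · left
      have := congrArg (fun b => ((e b : A) : G)) h
      simpa using this
    · right
      have := congrArg (fun b => ((e b : A) : G)) h
      simpa [hz] using this
  have hnorm : normalizer (A : Set G) ≤ centralizer ({z} : Set G) := by
    intro g hg
    have hzA' : g * z * g⁻¹ ∈ A := (mem_normalizer_iff.mp hg z).mp hzA
    have hzC : g * z * g⁻¹ ∈ centralizer (A : Set G) := mem_centralizer_iff.mpr fun a ha => by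
      have ha' : g⁻¹ * a * g ∈ A := by
        have := (mem_normalizer_iff.mp (inv_mem hg) a).mp ha
        rwa [inv_inv] at this
      calc a * (g * z * g⁻¹) = g * (g⁻¹ * a * g * z) * g⁻¹ := by group
        _ = g * (z * (g⁻¹ * a * g)) * g⁻¹ := by rw [z_comm _ ha']
        _ = _ := by group
    rcases inter _ hzA' hzC with h | h
    · rw [conj_eq_one_iff] at h; exact absurd h hzne
    · exact mem_centralizer_singleton_iff.mpr (mul_inv_eq_iff_eq_mul.mp h)
  -- tight embedding
  have tight : ∀ s ∈ centralizer (A : Set G), s * s = 1 → s ≠ 1 → ∀ g : G,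
      g * s * g⁻¹ ∈ centralizer (A : Set G) → g ∈ normalizer (A : Set G) := by
    intro s hs h2 h1 g hg
    rw [hA.2.2.2]
    by_contra hgN
    have hodd := hA.2.1.2 g hgN
    have hm : g * s * g⁻¹ ∈ (centralizer (A : Set G)).map (MulAut.conj g).toMonoidHom := ⟨s, hs, rfl⟩
    have hd := Subgroup.orderOf_dvd_natCard _ (Subgroup.mem_inf.2 ⟨hg, hm⟩)
    have ho : orderOf (g * s * g⁻¹) = 2 := orderOf_eq_prime
      (by rw [pow_two, show g * s * g⁻¹ * (g * s * g⁻¹) = g * (s * s) * g⁻¹ by group, h2]; group)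
      (fun h => h1 (conj_eq_one_iff.1 h))
    rw [ho] at hd
    obtain ⟨k, hk⟩ := hodd
    omega
  have fac : ∀ n : G, n * z = z * n → ∃ a ∈ A, ∃ c ∈ centralizer (A : Set G), n = a * c := by
    intro n hn
    have hnN : n ∈ normalizer (A : Set G) := tight z hzK hzsq hzne n (by
      rw [hn, mul_inv_cancel_right]; exact hzK)
    let σ : A ≃* A :=
      { toFun := fun x => ⟨n * x * n⁻¹, (mem_normalizer_iff.mp hnN _).mp x.2⟩
        invFun := fun x => ⟨n⁻¹ * x * n, by
          have := (mem_normalizer_iff.mp (inv_mem hnN) _).mp x.2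
          rwa [inv_inv] at this⟩
        left_inv := fun x => Subtype.ext (by show n⁻¹ * (n * x * n⁻¹) * n = x; group)
        right_inv := fun x => Subtype.ext (by show n * (n⁻¹ * x * n) * n⁻¹ = x; group)
        map_mul' := fun x y => Subtype.ext (by
          show n * (x * y : G) * n⁻¹ = (n * x * n⁻¹) * (n * y * n⁻¹)
          group) }
    obtain ⟨w, hB⟩ := inner ((e.trans σ).trans e.symm)
    refine ⟨(e w : A), (e w).2, ((e w : A) : G)⁻¹ * n, ?_, by group⟩
    refine mem_centralizer_iff.mpr fun a ha => ?_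
    have h := congrArg e (hB (e.symm ⟨a, ha⟩))
    simp only [MulEquiv.trans_apply, MulEquiv.apply_symm_apply, map_mul, map_inv] at h
    have h' : n * a * n⁻¹ = ((e w : A) : G) * a * ((e w : A) : G)⁻¹ := congrArg Subtype.val h
    calc a * (((e w : A) : G)⁻¹ * n)
        = ((e w : A) : G)⁻¹ * (((e w : A) : G) * a * ((e w : A) : G)⁻¹) * n := by group
      _ = _ := by rw [← h']; group
  have ev : ∀ {a : G} (ha : a ∈ A), ((e (e.symm ⟨a, ha⟩) : A) : G) = a := fun {a} ha => by rw [e.apply_symm_apply]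
  have lift : ∀ {a b : G} (ha : a ∈ A) (hb : b ∈ A), a * b = b * a ↔
      e.symm ⟨a, ha⟩ * e.symm ⟨b, hb⟩ = e.symm ⟨b, hb⟩ * e.symm ⟨a, ha⟩ := fun {a b} ha hb => by
    rw [← map_mul, ← map_mul, EmbeddingLike.apply_eq_iff_eq, Subtype.ext_iff]; rfl
  have lord : ∀ {a : G} (ha : a ∈ A), orderOf (e.symm ⟨a, ha⟩) = orderOf a := fun {a} ha => by
    rw [MulEquiv.orderOf_eq, Subgroup.orderOf_mk]
  have fx : ∀ x (hx : x ∈ A), x ≠ 1 → x ≠ z → (x * x = 1 ∨ x * x = z) →
      OddFact zc (e.symm ⟨x, hx⟩) ∧ CommFact zc (e.symm ⟨x, hx⟩) := fun x hx h1 hxz h2 => by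
    refine facts _ (fun h => h1 ?_) (fun h => hxz ?_) ?_
    · have := congrArg (fun b => ((e b : A) : G)) h; simpa using this
    · have := congrArg (fun b => ((e b : A) : G)) h; simpa [hz] using this
    · rw [← map_mul]
      rcases h2 with h | h
      · exact Or.inl (e.injective (by rw [e.apply_symm_apply, map_one]; exact Subtype.ext h))
      · exact Or.inr (e.injective (by rw [e.apply_symm_apply]; exact Subtype.ext h))
  refine ⟨{ L := A, z := z, z_mem := hzA, z_cen := hzK, z_sq := hzsq, z_ne := hzne, inter := inter, fac := fac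
            tight := fun s hs h2 h1 g hg => mem_centralizer_singleton_iff.1 (hnorm (tight s hs h2 h1 g
              (by rw [hg, mul_inv_cancel_right]; exact hs)))
            f_odd := ?_, f_comm := ?_ }, rfl, hnorm,
    fun s hs h2 h1 g hg => mem_centralizer_singleton_iff.1 (hnorm (tight s hs h2 h1 g hg))⟩
  · intro x hx h1 hxz h2 N hNA hNx hNc hzN n hn hodd
    let j : B →* G := A.subtype.comp e.toMonoidHom
    have h := (fx x hx h1 hxz h2).1 (N.comap j) (fun m hm => ?_) (fun b hb m hm => ?_) hzN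
      (e.symm ⟨n, hNA hn⟩) ?_ (by rwa [lord])
    · have := congrArg (fun b => ((e b : A) : G)) h; simpa using this
    · refine e.injective (Subtype.ext ?_)
      rw [map_mul, map_mul, Subgroup.coe_mul, Subgroup.coe_mul, ev]
      exact hNx _ hm
    · show ((e (b * m * b⁻¹) : A) : G) ∈ N
      rw [map_mul, map_mul, map_inv, Subgroup.coe_mul, Subgroup.coe_mul, Subgroup.coe_inv]
      refine hNc _ (e b).2 ?_ _ hm
      have := congrArg (fun b => ((e b : A) : G)) hb
      simpa [map_mul] using this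
    · show ((e (e.symm ⟨n, hNA hn⟩) : A) : G) ∈ N
      rw [ev]; exact hn
  · intro x hx h1 hxz h2 d hd hdx hda d1 dz dx dxz
    have hex : e.symm ⟨d, hd⟩ * e.symm ⟨x, hx⟩ = e.symm ⟨x, hx⟩ * e.symm ⟨d, hd⟩ ∨
        e.symm ⟨d, hd⟩ * e.symm ⟨x, hx⟩ = e.symm ⟨x, hx⟩ * e.symm ⟨d, hd⟩ * zc := by
      rcases hdx with h | h
      · exact Or.inl ((lift hd hx).1 h)
      · exact Or.inr (e.injective (Subtype.ext (by simpa [hz] using h)))
    have hea : ∀ b : B, Odd (orderOf b) → b * e.symm ⟨x, hx⟩ = e.symm ⟨x, hx⟩ * b →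
        b * e.symm ⟨d, hd⟩ = e.symm ⟨d, hd⟩ * b := by
      intro b hbo hbx
      have hb : ((e b : A) : G) * x = x * (e b : A) := by
        have := congrArg (fun b => ((e b : A) : G)) hbx; simpa using this
      have := hda _ (e b).2 (by rwa [Subgroup.orderOf_coe, MulEquiv.orderOf_eq]) hb
      exact e.injective (Subtype.ext (by simpa using this))
    obtain ⟨⟨q1, q2⟩, u, hu1, hu2⟩ := (fx x hx h1 hxz h2).2 (e.symm ⟨d, hd⟩) hex hea
      (fun h => d1 (by have := congrArg (fun b => ((e b : A) : G)) h; simpa using this))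
      (fun h => dz (by have := congrArg (fun b => ((e b : A) : G)) h; simpa [hz] using this))
      (fun h => dx (by have := congrArg (fun b => ((e b : A) : G)) h; simpa using this))
      (fun h => dxz (by have := congrArg (fun b => ((e b : A) : G)) h; simpa [hz] using this))
    refine ⟨⟨fun h => q1 (e.injective (Subtype.ext (by simpa using h))),
      fun h => q2 (e.injective (Subtype.ext (by simpa [hz] using h)))⟩, (e u : A), (e u).2, ?_, fun h => hu2 ?_⟩
    · have := congrArg (fun b => ((e b : A) : G)) hu1; simpa using this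
    · exact e.injective (Subtype.ext (by simpa using h))

variable [Finite G]

/-- Two commuting conjugates: the other lies in the cover and every 2-element of the centraliser is central. -/
theorem two_elements (V : Cov G)
    (hconj : ∀ s ∈ centralizer (V.L : Set G), s * s = 1 → s ≠ 1 → ∀ g : G,
      g * s * g⁻¹ ∈ centralizer (V.L : Set G) → g * V.z = V.z * g)
    (hiso : ¬ IsIsolatedInvolution V.z) :
    ∀ r ∈ centralizer (V.L : Set G), ∀ i : ℕ, r ^ 2 ^ i = 1 → r = 1 ∨ r = V.z := by
  have hord : orderOf V.z = 2 := orderOf_eq_prime (by rw [pow_two, V.z_sq]) V.z_ne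
  obtain ⟨g, hc, hne⟩ : ∃ g : G, Commute V.z (g * V.z * g⁻¹) ∧ g * V.z * g⁻¹ ≠ V.z := by
    by_contra h
    push Not at h
    exact hiso ⟨hord, fun g hg => h g hg⟩
  have hd : Apart V (V.conj g) := by
    intro s hs hs' h2
    by_contra h1
    have hK : g⁻¹ * s * g ∈ centralizer (V.L : Set G) := mem_centralizer_iff.2 fun a ha => by
      have e := mem_centralizer_iff.1 hs' (g * a * g⁻¹) ⟨a, ha, rfl⟩
      calc a * (g⁻¹ * s * g) = g⁻¹ * ((g * a * g⁻¹) * s) * g := by group
        _ = g⁻¹ * (s * (g * a * g⁻¹)) * g := by rw [e]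
        _ = _ := by group
    have h := hconj (g⁻¹ * s * g) hK (by rw [show g⁻¹ * s * g * (g⁻¹ * s * g) = g⁻¹ * (s * s) * g by group, h2]; group)
      (fun h => h1 (by
        calc s = g * (g⁻¹ * s * g) * g⁻¹ := by group
          _ = 1 := by rw [h]; group)) g (by rwa [show g * (g⁻¹ * s * g) * g⁻¹ = s by group])
    exact hne (by rw [h, mul_inv_cancel_right])
  have hcB : V.z * (V.conj g).z = (V.conj g).z * V.z := hc
  have htwo : ∀ r ∈ centralizer (V.L : Set G), r * (g * V.z * g⁻¹) = g * V.z * g⁻¹ * r → ∀ i : ℕ,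
      r ^ 2 ^ i = 1 → r = 1 ∨ r = V.z := fun r hr hry i hi =>
    two_element V (V.conj g) (fun h => hne h.symm) hcB hd hr hry hi
  obtain ⟨l, hl, k, hk, ey⟩ := V.fac (g * V.z * g⁻¹) hc.symm
  have hlk := V.comm_of hl hk
  have hk4 : k ^ 2 ^ 2 = 1 := by
    have h2 : l * l * (k * k) = 1 := by
      calc l * l * (k * k) = l * (l * k) * k := by group
        _ = l * (k * l) * k := by rw [← hlk]
        _ = (l * k) * (l * k) := by group
        _ = g * (V.z * V.z) * g⁻¹ := by rw [← ey]; group
        _ = 1 := by rw [V.z_sq]; group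
    have hkk : k * k = 1 ∨ k * k = V.z := V.inter _
      (by rw [eq_inv_of_mul_eq_one_right h2]; exact inv_mem (mul_mem hl hl)) (mul_mem hk hk)
    rw [show (2 : ℕ) ^ 2 = 2 * 2 from rfl, pow_mul, pow_two, pow_two]
    rcases hkk with h | h <;> rw [h]
    · exact one_mul 1
    · exact V.z_sq
  have hyL : g * V.z * g⁻¹ ∈ V.L := by
    rcases htwo k hk (by rw [ey, ← mul_assoc, ← hlk]) 2 hk4 with h | h <;> rw [ey, h]
    · rw [mul_one]; exact hl
    · exact mul_mem hl V.z_mem
  exact fun r hr i hi => htwo r hr (V.comm_of hyL hr).symm i hi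

/-- **The centraliser of the cover is its centre.** -/
theorem centralizer_eq (V : Cov G)
    (hconj : ∀ s ∈ centralizer (V.L : Set G), s * s = 1 → s ≠ 1 → ∀ g : G,
      g * s * g⁻¹ ∈ centralizer (V.L : Set G) → g * V.z = V.z * g)
    (hiso : ¬ IsIsolatedInvolution V.z) (hbal : centralizerPPrimeCore 2 V.z = ⊥) :
    centralizer ({V.z} : Set G) = V.L := by
  haveI : Fact (Nat.Prime 2) := ⟨Nat.prime_two⟩
  have htwo := two_elements V hconj hiso
  set K := centralizer (V.L : Set G) with hK
  obtain ⟨P⟩ : Nonempty (Sylow 2 K) := inferInstance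
  have hP : ∀ p ∈ (P : Subgroup K), ∀ k : K, k * p = p * k := by
    intro p hp k
    obtain ⟨i, hi⟩ := P.isPGroup' ⟨p, hp⟩
    have hi' : (p : G) ^ 2 ^ i = 1 := congrArg (fun q : (P : Subgroup K) => ((q : K) : G)) hi
    refine Subtype.ext ?_
    rcases htwo p p.2 i hi' with h | h <;> show (k : G) * p = p * k <;> rw [h]
    · rw [one_mul, mul_one]
    · exact V.z_comm_K k.2
  have hle : normalizer ((P : Subgroup K) : Set K) ≤ centralizer ((P : Subgroup K) : Set K) := fun k _ =>
    mem_centralizer_iff.2 fun p hp => (hP p hp k).symm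
  set T := MonoidHom.transferSylow P hle with hT
  have hcompl : IsComplement' T.ker (P : Subgroup K) := MonoidHom.ker_transferSylow_isComplement' P hle
  have hodd : ¬ 2 ∣ Nat.card T.ker := MonoidHom.not_dvd_card_ker_transferSylow P hle
  have hmem : ∀ a : K, a ∈ T.ker ↔ Odd (orderOf a) := by
    intro a
    constructor
    · intro ha
      have h : orderOf a ∣ Nat.card T.ker := by
        have := orderOf_dvd_natCard (⟨a, ha⟩ : T.ker)
        rwa [Subgroup.orderOf_mk] at this
      exact Nat.odd_iff.2 (Nat.two_dvd_ne_zero.1 fun h2 => hodd (h2.trans h))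
    · intro ha
      obtain ⟨i, hi⟩ := P.isPGroup'.exists_card_eq
      rw [MonoidHom.mem_ker, ← orderOf_eq_one_iff]
      have h1 : orderOf (T a) ∣ 2 ^ i := hi ▸ orderOf_dvd_natCard _
      exact Nat.eq_one_of_dvd_coprimes ((Nat.coprime_two_left.2 ha).pow_left i) h1 (orderOf_map_dvd T a)
  set C := centralizer ({V.z} : Set G)
  have hKC : K ≤ C := fun k hk => mem_centralizer_singleton_iff.2 (V.z_comm_K hk)
  let O : Subgroup C := T.ker.map (Subgroup.inclusion hKC)
  haveI hOn : O.Normal := ⟨by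
    rintro _ ⟨a, ha, rfl⟩ c
    have hn : (c : G) * a * (c : G)⁻¹ ∈ K := V.norm_K (mem_centralizer_singleton_iff.1 c.2) a.2
    refine ⟨⟨_, hn⟩, ?_, Subtype.ext rfl⟩
    rw [SetLike.mem_coe, hmem, ← Subgroup.orderOf_coe]
    show Odd (orderOf ((c : G) * a * (c : G)⁻¹))
    rw [show (c : G) * a * (c : G)⁻¹ = MulAut.conj (c : G) a from rfl, MulEquiv.orderOf_eq, Subgroup.orderOf_coe]
    exact (hmem a).1 ha⟩
  have hOc : (Nat.card O).Coprime 2 := by
    rw [Subgroup.card_map_of_injective (Subgroup.inclusion_injective hKC)]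
    exact (Nat.prime_two.coprime_iff_not_dvd.2 hodd).symm
  have hker : T.ker = ⊥ := by
    refine (Subgroup.eq_bot_iff_forall _).2 fun a ha => Subtype.ext ?_
    have h : (a : G) ∈ centralizerPPrimeCore 2 V.z :=
      ⟨Subgroup.inclusion hKC a, le_sSup (show O ∈ {N : Subgroup C | N.Normal ∧ (Nat.card N).Coprime 2} from
        ⟨hOn, hOc⟩) ⟨a, ha, rfl⟩, rfl⟩
    rw [hbal, mem_bot] at h
    exact h
  rw [hker, isComplement'_bot_left] at hcompl
  refine le_antisymm (fun n hn => ?_) (fun a ha => mem_centralizer_singleton_iff.2 (V.z_comm_L ha))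
  obtain ⟨a, ha, k, hk, rfl⟩ := V.fac n (mem_centralizer_singleton_iff.1 hn)
  obtain ⟨i, hi⟩ := P.isPGroup' ⟨⟨k, hk⟩, hcompl ▸ mem_top _⟩
  have hi' : k ^ 2 ^ i = 1 := congrArg (fun q : (P : Subgroup K) => ((q : K) : G)) hi
  rcases htwo k hk i hi' with h | h <;> rw [h]
  · rwa [mul_one]
  · exact mul_mem ha V.z_mem

end Cfsg.Lib.SpSixStd
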