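import Cfsg.Agent.SpSixStd.CoverFacts
import Cfsg.Agent.SpSixStd.Standard
import Cfsg.Agent.CoThreeRecog.Final

/-!
A standard subgroup that is the double cover of the symplectic group of degree six over two elements, in a
simple group balanced at involutions.
-/

set_option autoImplicit false
set_option linter.style.haveILetI false

namespace Cfsg.Lib.SpSixStd

open Cfsg Subgroup
open Cfsg.Lib.SpSixTwo (cover proj negC ker_eq)

universe u v

/-- A perfect double cover is non-split. -/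
theorem nonsplit_of_perfect {H : Type u} [Group H] [Finite H] (hp : commutator H = ⊤) (hc : Nat.card (center H) = 2)
    {K : Type v} [Group K] (e : Nonempty (H ⧸ center H ≃* K)) : IsNonsplitDoubleCover H K := by
  refine ⟨hc, e, fun S hS => ?_⟩
  have hle : commutator H ≤ S := by
    rw [commutator_def, commutator_le]
    intro a _ b _
    obtain ⟨⟨⟨x, hx⟩, ⟨s, hs⟩⟩, rfl⟩ := hS.2 a
    obtain ⟨⟨⟨y, hy⟩, ⟨t, ht⟩⟩, rfl⟩ := hS.2 b
    have hx' := mem_center_iff.1 hx
    have hy' := mem_center_iff.1 hy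
    show (x * s) * (y * t) * (x * s)⁻¹ * (y * t)⁻¹ ∈ S
    have e1 : (x * s) * (y * t) * (x * s)⁻¹ * (y * t)⁻¹ = s * t * s⁻¹ * t⁻¹ := by
      calc (x * s) * (y * t) * (x * s)⁻¹ * (y * t)⁻¹ = x * (s * y) * t * s⁻¹ * x⁻¹ * t⁻¹ * y⁻¹ := by group
        _ = x * y * (s * t * s⁻¹) * x⁻¹ * t⁻¹ * y⁻¹ := by rw [hy' s]; group
        _ = x * y * (s * t * s⁻¹) * (t⁻¹ * x⁻¹) * y⁻¹ := by
            rw [(show Commute t⁻¹ x from hx' t⁻¹).inv_right.eq]; group
        _ = x * y * ((s * t * s⁻¹ * t⁻¹) * x⁻¹) * y⁻¹ := by group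
        _ = x * y * (x⁻¹ * (s * t * s⁻¹ * t⁻¹)) * y⁻¹ := by
            rw [(show Commute (s * t * s⁻¹ * t⁻¹) x from hx' _).inv_right.eq]
        _ = x * (y * x⁻¹) * ((s * t * s⁻¹ * t⁻¹) * y⁻¹) := by group
        _ = x * (x⁻¹ * y) * (y⁻¹ * (s * t * s⁻¹ * t⁻¹)) := by
            rw [(show Commute (s * t * s⁻¹ * t⁻¹) y from hy' _).inv_right.eq,
              (show Commute y x from hx' y).inv_right.eq]
        _ = _ := by group
    rw [e1]
    exact mul_mem (mul_mem (mul_mem hs ht) (inv_mem hs)) (inv_mem ht)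
  rw [hp, top_le_iff] at hle
  have h := hS.card_mul
  rw [hc, hle, card_top] at h
  have := Nat.card_pos (α := H)
  omega

/-- **The theorem.** -/
theorem main {G : Type u} [Group G] [Finite G] [IsSimpleGroup G] (hG : ¬ IsMulCommutative G)
    (hbal : ∀ t : G, orderOf t = 2 → centralizerPPrimeCore 2 t = ⊥) (L : Subgroup G) (hL : IsStandardSubgroup L)
    {F : Type v} [Field F] [Fintype F] (hF : Fintype.card F = 2) (hZ : Nat.card (center ↥L) = 2)
    (hX : Nonempty (↥L ⧸ center ↥L ≃* Cfsg.PSp 3 F)) : Cfsg.Spor.IsoCo3 G := by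
  haveI : Finite cover := Nat.finite_of_card_ne_zero (by rw [Cfsg.Lib.SpSixTwo.card_cover]; norm_num)
  obtain ⟨q⟩ := hX
  have hperf : commutator ↥L = ⊤ := hL.1.1.commutator_eq_top
  have hD : IsNonsplitDoubleCover ↥L Cfsg.Lib.SpSixTwo.Sp :=
    nonsplit_of_perfect hperf hZ ⟨q.trans (toPSp F hF).symm⟩
  obtain ⟨e⟩ := Cfsg.Lib.CoThreeRecog.exists_iso hD
  obtain ⟨V, hVL, -, hconj⟩ := exists_cov L hL e negC negC_sq Cfsg.Lib.SpSixTwo.negC_ne_one negC_comm
    (fun b hb => cover_center (mem_center_iff.2 hb)) cover_aut_inner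
    (fun x h1 hz h2 => cover_facts h1 hz h2)
  have hcen : center G = ⊥ := by
    refine (IsSimpleGroup.eq_bot_or_eq_top_of_normal _ inferInstance).resolve_right fun h => hG ?_
    exact ⟨⟨fun a b => mem_center_iff.1 (h ▸ mem_top b) a⟩⟩
  have hord : orderOf V.z = 2 := orderOf_eq_prime (by rw [pow_two, V.z_sq]) V.z_ne
  have hcore : oddCore G = ⊥ := by
    refine (IsSimpleGroup.eq_bot_or_eq_top_of_normal _ inferInstance).resolve_right fun h => ?_
    have ho := Cfsg.Lib.ZStarApps.odd_card_pPrimeCore (G := G)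
    rw [show Cfsg.pPrimeCore 2 G = ⊤ from h, card_top] at ho
    exact Nat.not_even_iff_odd.mpr ho (even_iff_two_dvd.mpr (hord ▸ orderOf_dvd_natCard V.z))
  have hiso : ¬ IsIsolatedInvolution V.z := fun hz => V.z_ne (mem_bot.1 (hcen ▸ mem_center_iff.2 fun g => by
    have h := Cfsg.Lib.ZStarApps.zstarProp hz g
    rw [show Cfsg.pPrimeCore 2 G = ⊥ from hcore, mem_bot, mul_inv_eq_one, mul_inv_eq_iff_eq_mul] at h
    exact h.symm))
  subst hVL
  have hC := centralizer_eq V hconj hiso (hbal _ hord)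
  refine Cfsg.Lib.CoThreeRecog.main hcore hcen V.z hord ?_
  rw [hC]
  exact hD

end Cfsg.Lib.SpSixStd
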