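import Cfsg.Agent.SpSixStd.Codes
import Cfsg.Agent.LocalThree.SpCentre.SixModel

/-!
From the checks on a class of involutions to the order of the centraliser of an involution.
-/

set_option autoImplicit false
set_option maxRecDepth 8000
set_option linter.unusedSectionVars false
set_option linter.style.haveILetI false

namespace Cfsg.Lib.SpSixStd

open Cfsg.Lib.SpSixTwo
open Cfsg.Lib.SpCentre.Code (rep pk mul one prodC repSet rep_mul rep_inj rep_one pk_congr)

/-- the generators square to one -/
def GensSq : Prop := ∀ g : Fin 7, mul (codeW [g.val]) (codeW [g.val]) = one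

theorem rep_el (w : List ℕ) : rep (proj (el w)) = codeW w := pk_congr fun _ hx => el_vec w hx

theorem el_rpw (m : ℕ) (w : List ℕ) : el (rpw m w) = el w ^ m := by
  induction m with
  | zero => simp [rpw]
  | succ m ih => rw [show rpw (m + 1) w = w ++ rpw m w by simp [rpw, List.replicate_succ], el_append, ih, pow_succ']

theorem el_winv {u : List ℕ} (h : key (u ++ winv u) = key []) : el (winv u) = (el u)⁻¹ := by
  have := el_eq_iff.2 h
  rw [el_append, el_nil] at this
  exact eq_inv_of_mul_eq_one_right this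

theorem comm_of_key {a b : List ℕ} (h : key (a ++ b) = key (b ++ a)) : el a * el b = el b * el a := by
  have := el_eq_iff.2 h
  rwa [el_append, el_append] at this

theorem key_of_comm {a b : List ℕ} (h : el a * el b = el b * el a) : key (a ++ b) = key (b ++ a) :=
  el_eq_iff.1 (by rwa [el_append, el_append])

section

variable (hg : GensSq)
include hg

theorem gen_inv (c : Fin 7) : (proj (el [c.val]))⁻¹ = proj (el [c.val]) := by
  refine inv_eq_of_mul_eq_one_right (rep_inj ?_)
  rw [rep_mul, rep_el, rep_one]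
  exact hg c

theorem rep_cj {g : ℕ} (hlt : g < 7) (y : Sp) :
    rep (proj (el [g]) * y * (proj (el [g]))⁻¹) = cj g (rep y) := by
  rw [gen_inv hg ⟨g, hlt⟩, mul_assoc, rep_mul, rep_mul, rep_el]
  rfl

variable {C : Cls} (hdown : downOK C = true) (hclosed : closedOK C = true) (hsize : sizeOK C = true)

/-- The codes of the class. -/
def codes (C : Cls) : List ℕ := C.tree.toList.map fun e => e.1

include hclosed in
theorem closed_gen (c : Fin 7) {y : Sp} (hy : rep y ∈ codes C) :
    rep (proj (el [c.val]) * y * (proj (el [c.val]))⁻¹) ∈ codes C := by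
  obtain ⟨t, ht, hte⟩ := List.mem_map.1 hy
  have hc := List.all_eq_true.1 (List.all_eq_true.1 hclosed t ht) c.val (List.mem_range.2 c.2)
  obtain ⟨d, hd⟩ := Option.isSome_iff_exists.1 hc
  obtain ⟨g, hg'⟩ := WT.get_mem hd
  rw [rep_cj hg c.2, ← hte]
  exact List.mem_map.2 ⟨_, hg', rfl⟩

include hclosed in
theorem closed_conj (h y : Sp) (hy : rep y ∈ codes C) : rep (h * y * h⁻¹) ∈ codes C := by
  obtain ⟨⟨x, hx⟩, rfl⟩ := proj_surjective h
  revert y
  suffices ∀ y : Sp, rep y ∈ codes C → rep (x.2 * y * x.2⁻¹) ∈ codes C ∧ rep (x.2⁻¹ * y * x.2) ∈ codes C from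
    fun y hy => (this y hy).1
  induction hx using Subgroup.closure_induction with
  | mem x hx =>
    obtain ⟨c, rfl⟩ := hx
    intro y hy
    have e : genT c = proj (el [c.val]) := by
      rw [el_cons, el_nil, mul_one]
      show genT c = genT ⟨c.val % 7, _⟩
      congr
      exact Fin.ext (Nat.mod_eq_of_lt c.2).symm
    have k := closed_gen hg hclosed c hy
    refine ⟨show rep (genT c * y * (genT c)⁻¹) ∈ _ by rw [e]; exact k, ?_⟩
    rw [gen_inv hg c] at k
    show rep ((genT c)⁻¹ * y * genT c) ∈ _
    rwa [e, gen_inv hg c]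
  | one => intro y hy; simpa using hy
  | mul a b _ _ iha ihb =>
    intro y hy
    exact ⟨by simpa [mul_assoc] using (iha _ (ihb y hy).1).1, by simpa [mul_assoc] using (ihb _ (iha y hy).2).2⟩
  | inv a _ iha =>
    intro y hy
    obtain ⟨h1, h2⟩ := iha y hy
    exact ⟨by simpa using h2, by simpa using h1⟩

include hdown in
theorem exists_conj {x d g : ℕ} (h : (x, d, g) ∈ C.tree.toList) :
    ∃ k : Sp, rep (k * proj (el C.xw) * k⁻¹) = x := by
  induction d using Nat.strong_induction_on generalizing x g with
  | _ d ih =>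
    have hd := List.all_eq_true.1 hdown _ h
    simp only [Bool.or_eq_true, Bool.and_eq_true, beq_iff_eq, Nat.blt_eq, Option.any_eq_true] at hd
    rcases hd with rfl | ⟨hg7, hx, d', hget, hlt⟩
    · exact ⟨1, by simp [rep_el]⟩
    obtain ⟨g', hg'⟩ := WT.get_mem hget
    obtain ⟨k, hk⟩ := ih d' hlt hg'
    refine ⟨proj (el [g]) * k, ?_⟩
    have e : proj (el [g]) * k * proj (el C.xw) * (proj (el [g]) * k)⁻¹ =
        proj (el [g]) * (k * proj (el C.xw) * k⁻¹) * (proj (el [g]))⁻¹ := by group
    rw [e, rep_cj hg hg7, hk, hx]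

include hdown hclosed hsize

/-- The order of the centraliser. -/
theorem card_cent : Nat.card (Subgroup.centralizer ({proj (el C.xw)} : Set Sp)) * C.size = 1451520 := by
  simp only [sizeOK, Bool.and_eq_true, beq_iff_eq, Option.isSome_iff_exists] at hsize
  obtain ⟨⟨⟨d0, hd0⟩, hinc⟩, hlen⟩ := hsize
  obtain ⟨g0, hg0⟩ := WT.get_mem hd0
  set x0 := proj (el C.xw)
  have hS : (rep '' MulAction.orbit (ConjAct Sp) x0) = ↑(codes C).toFinset := by
    ext x
    simp only [Set.mem_image, Finset.mem_coe, List.mem_toFinset, MulAction.mem_orbit_iff]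
    constructor
    · rintro ⟨y, ⟨k, rfl⟩, rfl⟩
      exact closed_conj hg hclosed (ConjAct.ofConjAct k) x0 (List.mem_map.2 ⟨_, hg0, (rep_el C.xw).symm⟩)
    · intro hx
      obtain ⟨⟨x', d, g⟩, ht, rfl⟩ := List.mem_map.1 hx
      obtain ⟨k, hk⟩ := exists_conj hg hdown ht
      exact ⟨_, ⟨ConjAct.toConjAct k, rfl⟩, by rw [ConjAct.smul_def, ConjAct.ofConjAct_toConjAct, hk]⟩
  have hn : (MulAction.orbit (ConjAct Sp) x0).ncard = C.size := by
    rw [← Set.ncard_image_of_injective _ (fun _ _ e => rep_inj e), hS, Set.ncard_coe_finset,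
      List.toFinset_card_of_nodup (show (codes C).Nodup from isInc_nodup hinc), codes, List.length_map, hlen]
  have h := (MulAction.stabilizer (ConjAct Sp) x0).card_mul_index
  rw [MulAction.index_stabilizer, hn, Nat.card_congr ConjAct.ofConjAct.toEquiv, card_Sp] at h
  rw [← h, ConjAct.stabilizer_eq_centralizer]
  congr 1

/-- The order of the centraliser in the cover. -/
theorem card_cent_cover : Nat.card (Subgroup.centralizer ({el C.xw} : Set cover)) ∣ bound C := by
  have h := card_cent hg hdown hclosed hsize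
  have hb : bound C = 2 * Nat.card (Subgroup.centralizer ({proj (el C.xw)} : Set Sp)) := by
    rw [bound, ← h, Nat.mul_div_cancel]
    by_contra h0
    simp [Nat.eq_zero_of_not_pos h0] at h
  rw [hb]
  set D := (Subgroup.centralizer ({proj (el C.xw)} : Set Sp)).comap proj with hD
  have hle : Subgroup.centralizer ({el C.xw} : Set cover) ≤ D := fun a ha => by
    rw [hD, Subgroup.mem_comap, Subgroup.mem_centralizer_singleton_iff]
    rw [← map_mul, Subgroup.mem_centralizer_singleton_iff.1 ha, map_mul]
  refine (Subgroup.card_dvd_of_le hle).trans ?_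
  have h1 := D.card_mul_index
  rw [hD, Subgroup.index_comap_of_surjective _ proj_surjective, card_cover] at h1
  have h2 := (Subgroup.centralizer ({proj (el C.xw)} : Set Sp)).card_mul_index
  rw [card_Sp] at h2
  rw [← hD] at h1
  refine (Nat.eq_of_mul_eq_mul_right (Nat.pos_of_ne_zero Subgroup.index_ne_zero_of_finite)
    (h1.trans ?_)).dvd
  rw [mul_assoc, h2]
  all_goals norm_num

end

end Cfsg.Lib.SpSixStd
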