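import Cfsg.Agent.SpSixStd.Data
import Cfsg.Agent.SpSixTwo.Cover
import Cfsg.Agent.LocalThree.SpCentre.SixCode

/-!
The checks on the data of a class of involutions in the double cover of the symplectic group of degree
six over two elements.
-/

set_option autoImplicit false

namespace Cfsg.Lib.SpSixStd

open Cfsg.Lib.SpSixTwo (key actC)
open Cfsg.Lib.SpCentre.Code (pk mul one ap prodC repSet bform)

/-- the code of the image of a word -/
def codeW (w : List ℕ) : ℕ := pk (actC w)

/-- conjugation by a generator -/
def cj (g x : ℕ) : ℕ := mul (codeW [g]) (mul x (codeW [g]))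

/-- the entries of a tree in order -/
def WT.toList : WT → List (ℕ × ℕ × ℕ)
  | .nil => []
  | .node x d g l r => l.toList ++ (x, d, g) :: r.toList

/-- the search -/
def WT.get : WT → ℕ → Option ℕ
  | .nil, _ => none
  | .node x d _ l r, y => bif Nat.beq y x then some d else bif Nat.blt y x then l.get y else r.get y

theorem WT.get_mem : ∀ {T : WT} {y d : ℕ}, T.get y = some d → ∃ g, (y, d, g) ∈ T.toList
  | .nil, y, d, h => by simp [WT.get] at h
  | .node x e g l r, y, d, h => by
    simp only [WT.get] at h
    rcases hx : Nat.beq y x with _ | _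
    · rw [hx, cond_false] at h
      rcases hl : Nat.blt y x with _ | _
      · rw [hl, cond_false] at h
        obtain ⟨g', hg⟩ := WT.get_mem h
        exact ⟨g', by simp [WT.toList, hg]⟩
      · rw [hl, cond_true] at h
        obtain ⟨g', hg⟩ := WT.get_mem h
        exact ⟨g', by simp [WT.toList, hg]⟩
    · rw [hx, cond_true] at h
      obtain rfl := Option.some.inj h
      exact ⟨g, by simp [WT.toList, Nat.eq_of_beq_eq_true hx]⟩

/-- strictly increasing lists -/
def isInc : List ℕ → Bool
  | a :: b :: r => Nat.blt a b && isInc (b :: r)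
  | _ => true

theorem isInc_nodup {l : List ℕ} (h : isInc l = true) : l.Nodup := by
  suffices ∀ {l : List ℕ}, isInc l = true → l.Pairwise (· < ·) from (this h).imp Nat.ne_of_lt
  intro l
  induction l with
  | nil => intro _; exact List.Pairwise.nil
  | cons a r ih =>
    intro h
    cases r with
    | nil => exact List.pairwise_singleton _ a
    | cons b r =>
      simp only [isInc, Bool.and_eq_true, Nat.blt_eq] at h
      refine List.pairwise_cons.2 ⟨fun c hc => ?_, ih h.2⟩
      rcases List.mem_cons.1 hc with rfl | hc
      · exact h.1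
      · exact h.1.trans ((List.pairwise_cons.1 (ih h.2)).1 c hc)

/-- the class is closed under the generators -/
def closedOK (C : Cls) : Bool :=
  C.tree.toList.all fun e => (List.range 7).all fun g => (C.tree.get (cj g e.1)).isSome

/-- each element of the class comes from one of smaller depth -/
def downOK (C : Cls) : Bool :=
  C.tree.toList.all fun e => e.1 == codeW C.xw ||
    (Nat.blt e.2.2 7 &&
      let p := cj e.2.2 e.1
      cj e.2.2 p == e.1 && (C.tree.get p).any fun d => Nat.blt d e.2.1)

/-- the class has the given size -/
def sizeOK (C : Cls) : Bool :=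
  (C.tree.get (codeW C.xw)).isSome && isInc (C.tree.toList.map fun e => e.1) &&
    C.tree.toList.length == C.size

/-- the bound for the order of the centraliser -/
def bound (C : Cls) : ℕ := 2 * (1451520 / C.size)

/-- repeated words -/
def rpw (m : ℕ) (w : List ℕ) : List ℕ := (List.replicate m w).flatten

/-- the inverse of a word -/
def winv (w : List ℕ) : List ℕ := w.reverse ++ (bif w.length % 2 == 1 then [0, 0] else [])

/-- one factor of a product of conjugates -/
def piece (C : Cls) (g gi : List ℕ) (p : ℕ × Bool) : List ℕ :=
  C.conjs.getD p.1 [] ++ (bif p.2 then gi else g) ++ winv (C.conjs.getD p.1 [])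

/-- the checks on the odd Sylow subgroups -/
def sylOK (C : Cls) : Bool :=
  (2 ^ 20 * 45) % bound C == 0 &&
  ([3, 5].all fun q => bound C % q != 0 || C.syl.any fun p => p.1 == q) &&
  (C.syl.all fun p => (p.1 == 3 || p.1 == 5) && (p.2.length == p.1 || p.2.length == p.1 * p.1) &&
    bound C % p.2.length == 0 && (bound C / p.2.length) % p.1 != 0 &&
    decide (p.2.map key).Nodup && (p.2.any fun w => key w == key []) &&
    (p.2.all fun v => p.2.all fun w => p.2.any fun u => key (v ++ w) == key u) &&
    (p.2.all fun w => key (w ++ C.xw) == key (C.xw ++ w)) &&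
    p.2.all fun w => key w == key [] || (List.range 5).any fun m => C.gens.any fun t => key (rpw m w) == key t.1) &&
  (C.conjs.all fun u => key (u ++ winv u) == key [] && key (u ++ C.xw) == key (C.xw ++ u)) &&
  C.gens.all fun t => key (t.1 ++ t.2.1) == key [] && (t.2.2.all fun p => Nat.blt p.1 C.conjs.length) &&
    key (t.2.2.flatMap (piece C t.1 t.2.1)) == key [0, 0]

/-- the operators -/
def ops (C : Cls) : List ℕ := codeW C.xw :: C.odd.map fun a => codeW a.1

/-- the application of a word in the operators -/
def appW (o : List ℕ) (w : List ℕ) (v : ℕ) : ℕ := w.foldr (fun i v => ap (o.getD i 0) v) v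

/-- the value of an expression in the generators of the module -/
def evalU (o img : List ℕ) (l : List (List ℕ × ℕ)) : ℕ :=
  l.foldr (fun p r => appW o p.1 (img.getD p.2 0) ^^^ r) 0

/-- all lists of vectors of a given length -/
def imgs : ℕ → List (List ℕ)
  | 0 => [[]]
  | n + 1 => (List.range 64).flatMap fun a => (imgs n).map fun l => a :: l

theorem mem_imgs : ∀ {l : List ℕ}, (∀ a ∈ l, a < 64) → l ∈ imgs l.length
  | [], _ => by simp [imgs]
  | a :: r, h => by
    simp only [List.length_cons, imgs, List.mem_flatMap, List.mem_range, List.mem_map]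
    exact ⟨a, h a List.mem_cons_self, r, mem_imgs fun b hb => h b (List.mem_cons_of_mem _ hb), rfl⟩

/-- the code with given images of the generators of the module -/
def candC (C : Cls) (img : List ℕ) : ℕ :=
  let u := fun i => evalU (ops C) img (C.units.getD i [])
  u 0 + 64 * (u 1 + 64 * (u 2 + 64 * (u 3 + 64 * (u 4 + 64 * u 5))))

/-- the symplectic codes -/
def sympC (c : ℕ) : Bool :=
  (List.range 6).all fun a => (List.range 6).all fun b =>
    bform ((c >>> (6 * a)) % 64) ((c >>> (6 * b)) % 64) == bform (2 ^ a) (2 ^ b)

/-- the checks on the elements centralising the odd elements -/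
def commOK (C : Cls) : Bool :=
  (C.odd.all fun a => a.2 % 2 == 1 && key (rpw a.2 a.1) == key [] && key (a.1 ++ C.xw) == key (C.xw ++ a.1)) &&
  (C.mods.all fun v => Nat.blt v 64) &&
  ((List.range 6).all fun i => evalU (ops C) C.mods (C.units.getD i []) == 2 ^ i) &&
  (C.rows.all fun r => mul (codeW r.1) (codeW r.1) == one && key (r.2 ++ r.1) == key (r.1 ++ r.2) &&
    key (r.2 ++ C.xw) != key (C.xw ++ r.2)) &&
  (imgs C.mods.length).all fun img =>
    let c := candC C img
    !((ops C).all fun o => mul c o == mul o c) || !sympC c ||
      c == one || c == codeW C.xw || C.rows.any fun r => c == codeW r.1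

/-- all checks -/
def Good (C : Cls) (j : ℕ) : Prop :=
  codeW C.xw = prodC (repSet j) ∧ closedOK C = true ∧ downOK C = true ∧ sizeOK C = true ∧
    sylOK C = true ∧ commOK C = true

end Cfsg.Lib.SpSixStd
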