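import Cfsg.Agent.SpSixStd.Centralizer
import Cfsg.Agent.SpSixStd.Facts

/-!
No odd subgroup is invariant under the centraliser of an involution of the cover.
-/

set_option autoImplicit false
set_option maxRecDepth 8000
set_option linter.unusedSectionVars false
set_option linter.style.haveILetI false

namespace Cfsg.Lib.SpSixStd

open Cfsg.Lib.SpSixTwo

/-- The subgroup given by a list of words closed under products. -/
def wordSub (ws : List (List ℕ)) (h1 : ∃ w ∈ ws, key w = key [])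
    (hm : ∀ v ∈ ws, ∀ w ∈ ws, ∃ u ∈ ws, key (v ++ w) = key u) : Subgroup cover :=
  let M : Submonoid cover :=
    { carrier := {g | ∃ w ∈ ws, g = el w}
      one_mem' := by
        obtain ⟨w, hw, e⟩ := h1
        exact ⟨w, hw, by rw [← el_nil]; exact (el_eq_iff.2 e).symm⟩
      mul_mem' := by
        rintro _ _ ⟨v, hv, rfl⟩ ⟨w, hw, rfl⟩
        obtain ⟨u, hu, e⟩ := hm v hv w hw
        exact ⟨u, hu, by rw [← el_append]; exact el_eq_iff.2 e⟩ }
  { M with
    inv_mem' := fun {x} hx => by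
      rw [inv_eq_of_mul_eq_one_left (show x ^ (orderOf x - 1) * x = 1 by
        rw [← pow_succ, Nat.sub_add_cancel (orderOf_pos x), pow_orderOf_eq_one])]
      exact M.pow_mem hx _ }

/-- **The odd part.** -/
theorem oddFact_of {C : Cls} (hg : GensSq) (hdown : downOK C = true) (hclosed : closedOK C = true)
    (hsize : sizeOK C = true) (hsyl : sylOK C = true) : OddFact negC (el C.xw) := by
  simp only [sylOK, Bool.and_eq_true, Bool.or_eq_true, beq_iff_eq, bne_iff_ne, List.all_eq_true,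
    List.any_eq_true, decide_eq_true_eq, Nat.blt_eq] at hsyl
  obtain ⟨⟨⟨⟨hpow, hcov⟩, hs⟩, hconj⟩, hgens⟩ := hsyl
  intro N hNx hNc hz n hn hodd
  by_contra hn1
  have ho1 : orderOf n ≠ 1 := fun h => hn1 (orderOf_eq_one_iff.1 h)
  set q := (orderOf n).minFac
  have hq : q.Prime := Nat.minFac_prime ho1
  have hqn : q ∣ orderOf n := Nat.minFac_dvd _
  set d := n ^ (orderOf n / q) with hd
  have hdN : d ∈ N := pow_mem hn _
  have hdo : orderOf d = q := orderOf_pow_orderOf_div (orderOf_pos n).ne' hqn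
  set CC := Subgroup.centralizer ({el C.xw} : Set cover) with hCC
  have hdC : d ∈ CC := Subgroup.mem_centralizer_singleton_iff.2 (hNx d hdN)
  have hcard := card_cent_cover hg hdown hclosed hsize
  have hqb : q ∣ bound C := by
    refine dvd_trans ?_ hcard
    have := Subgroup.orderOf_coe (⟨d, hdC⟩ : CC)
    rw [← hdo, show orderOf d = orderOf (⟨d, hdC⟩ : CC) from this]
    exact orderOf_dvd_natCard _
  have hq35 : q = 3 ∨ q = 5 := by
    have h45 : q ∣ 2 ^ 20 * 45 := hqb.trans (Nat.dvd_of_mod_eq_zero hpow)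
    rcases hq.dvd_mul.1 h45 with h | h
    · exact absurd ((Nat.prime_dvd_prime_iff_eq hq Nat.prime_two).1 (hq.dvd_of_dvd_pow h))
        (fun e => hodd.not_two_dvd_nat (by rwa [e] at hqn))
    · rcases hq.dvd_mul.1 (show q ∣ 9 * 5 from h) with h | h
      · exact Or.inl ((Nat.prime_dvd_prime_iff_eq hq Nat.prime_three).1 (hq.dvd_of_dvd_pow (show q ∣ 3 ^ 2 from h)))
      · exact Or.inr ((Nat.prime_dvd_prime_iff_eq hq Nat.prime_five).1 h)
  obtain ⟨p, hp, hpq⟩ := (hcov q (by simpa using hq35)).resolve_left (fun h => h (Nat.mod_eq_zero_of_dvd hqb))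
  obtain ⟨⟨⟨⟨⟨⟨⟨⟨-, hlen⟩, hdiv⟩, hnd⟩, hnodup⟩, hone⟩, hmul⟩, hcomm⟩, hgen⟩ := hs p hp
  rw [hpq] at hlen hnd
  set P := wordSub p.2 hone hmul
  have hPle : P ≤ CC := by
    rintro _ ⟨w, hw, rfl⟩
    exact Subgroup.mem_centralizer_singleton_iff.2 (comm_of_key (hcomm w hw))
  haveI : Fact q.Prime := ⟨hq⟩
  have hPcard : Nat.card (P.subgroupOf CC) = p.2.length := by
    rw [Nat.card_congr (Subgroup.subgroupOfEquivOfLe hPle).toEquiv, ← SetLike.coe_sort_coe, Nat.card_coe_set_eq]
    have e : (P : Set cover) = ↑(p.2.map el).toFinset := by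
      ext g
      simp only [Finset.mem_coe, List.mem_toFinset, List.mem_map]
      exact ⟨fun ⟨w, hw, e⟩ => ⟨w, hw, e.symm⟩, fun ⟨w, hw, e⟩ => ⟨w, hw, e.symm⟩⟩
    rw [e, Set.ncard_coe_finset, List.toFinset_card_of_nodup, List.length_map]
    exact hnodup.of_map _ |>.map_on fun a ha b hb e => List.inj_on_of_nodup_map hnodup ha hb (el_eq_iff.1 e)
  have hPg : IsPGroup q (P.subgroupOf CC) := by
    rcases hlen with h | h
    · exact IsPGroup.of_card (n := 1) (by rw [hPcard, h, pow_one])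
    · exact IsPGroup.of_card (n := 2) (by rw [hPcard, h, pow_two])
  have hidx : ¬ q ∣ (P.subgroupOf CC).index := by
    intro h
    refine hnd (Nat.mod_eq_zero_of_dvd ?_)
    refine dvd_trans h ?_
    rw [Nat.dvd_div_iff_mul_dvd (Nat.dvd_of_mod_eq_zero hdiv), ← hPcard, Subgroup.card_mul_index]
    exact hcard
  let S := hPg.toSylow hidx
  have hdg : IsPGroup q (Subgroup.zpowers (⟨d, hdC⟩ : CC)) :=
    IsPGroup.of_card (n := 1) (by rw [Nat.card_zpowers, ← Subgroup.orderOf_coe, hdo, pow_one])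
  obtain ⟨Q, hQ⟩ := hdg.exists_le_sylow
  obtain ⟨c, hcS⟩ := MulAction.exists_smul_eq CC Q S
  have hmem : c * ⟨d, hdC⟩ * c⁻¹ ∈ P.subgroupOf CC := by
    have : c * ⟨d, hdC⟩ * c⁻¹ ∈ c • Q := ⟨_, hQ (Subgroup.mem_zpowers _), rfl⟩
    rw [hcS] at this
    exact this
  obtain ⟨w, hw, hwe⟩ := hmem
  have hwN : el w ∈ N := by
    rw [← hwe]
    exact hNc _ (Subgroup.mem_centralizer_singleton_iff.1 c.2) d hdN
  have hw1 : key w ≠ key [] := fun e => by
    have h := el_eq_iff.2 e
    rw [el_nil, ← hwe] at h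
    have hd1 : d = 1 := conj_eq_one_iff.1 h
    rw [hd1, orderOf_one] at hdo
    exact hq.one_lt.ne hdo
  obtain ⟨m, -, t, ht, hkey⟩ := (hgen w hw).resolve_left hw1
  obtain ⟨⟨hinv, hlt⟩, hpath⟩ := hgens t ht
  have hg1 : el t.1 ∈ N := by rw [← el_eq_iff.2 hkey, el_rpw]; exact pow_mem hwN m
  have hg2 : el t.2.1 ∈ N := by
    have h := el_eq_iff.2 hinv
    rw [el_append, el_nil] at h
    rw [eq_inv_of_mul_eq_one_right h]
    exact inv_mem hg1
  refine hz ?_
  rw [show negC = el [0, 0] from rfl, ← el_eq_iff.2 hpath]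
  have : ∀ l : List (ℕ × Bool), (∀ a ∈ l, a.1 < C.conjs.length) → el (l.flatMap (piece C t.1 t.2.1)) ∈ N := by
    intro l hl
    induction l with
    | nil => simp
    | cons a r ih =>
      rw [List.flatMap_cons, el_append]
      refine mul_mem ?_ (ih fun b hb => hl b (List.mem_cons_of_mem _ hb))
      have hu : C.conjs.getD a.1 [] ∈ C.conjs := by
        rw [List.getD_eq_getElem _ _ (hl a List.mem_cons_self)]
        exact List.getElem_mem _
      obtain ⟨hwi, hwc⟩ := hconj _ hu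
      rw [piece, el_append, el_append, el_winv hwi]
      refine hNc _ (comm_of_key hwc) _ ?_
      cases a.2
      · exact hg1
      · exact hg2
  exact this _ hlt

end Cfsg.Lib.SpSixStd
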