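import Mathlib

/-!
Two conjugate standard covers whose central involutions commute: the centraliser of each involution in
the centraliser of the other cover has no 2-element outside the centre.
-/

set_option autoImplicit false
set_option linter.unusedSectionVars false
set_option linter.unusedVariables false
set_option maxHeartbeats 400000

namespace Cfsg.Lib.SpSixStd

open Subgroup

/-- A central involution `z` of a subgroup `L` whose centraliser in the ambient group is `L C(L)`, with
the properties of the involutions of the cover that the argument uses. -/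
structure Cov (G : Type*) [Group G] where
  L : Subgroup G
  z : G
  z_mem : z ∈ L
  z_cen : z ∈ centralizer (L : Set G)
  z_sq : z * z = 1
  z_ne : z ≠ 1
  inter : ∀ a ∈ L, a ∈ centralizer (L : Set G) → a = 1 ∨ a = z
  fac : ∀ n : G, n * z = z * n → ∃ a ∈ L, ∃ c ∈ centralizer (L : Set G), n = a * c
  tight : ∀ s ∈ centralizer (L : Set G), s * s = 1 → s ≠ 1 → ∀ g : G, g * s = s * g → g * z = z * g
  f_odd : ∀ x ∈ L, x ≠ 1 → x ≠ z → (x * x = 1 ∨ x * x = z) → ∀ N : Subgroup G, N ≤ L →
    (∀ n ∈ N, n * x = x * n) → (∀ c ∈ L, c * x = x * c → ∀ n ∈ N, c * n * c⁻¹ ∈ N) → z ∉ N →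
    ∀ n ∈ N, Odd (orderOf n) → n = 1
  f_comm : ∀ x ∈ L, x ≠ 1 → x ≠ z → (x * x = 1 ∨ x * x = z) → ∀ e ∈ L,
    (e * x = x * e ∨ e * x = x * e * z) →
    (∀ a ∈ L, Odd (orderOf a) → a * x = x * a → a * e = e * a) →
    e ≠ 1 → e ≠ z → e ≠ x → e ≠ x * z →
    (e * e ≠ x ∧ e * e ≠ x * z) ∧ ∃ u ∈ L, u * e = e * u ∧ u * x ≠ x * u

variable {G : Type*} [Group G]

/-- The centralisers of the two covers share no involution. -/
def Apart (A B : Cov G) : Prop :=
  ∀ s ∈ centralizer (A.L : Set G), s ∈ centralizer (B.L : Set G) → s * s = 1 → s = 1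

theorem Apart.symm {A B : Cov G} (h : Apart A B) : Apart B A := fun s hB hA hs => h s hA hB hs

namespace Cov

variable (A : Cov G)

theorem comm_of {a k : G} (ha : a ∈ A.L) (hk : k ∈ centralizer (A.L : Set G)) : a * k = k * a :=
  mem_centralizer_iff.1 hk a ha

theorem z_comm_L {a : G} (ha : a ∈ A.L) : a * A.z = A.z * a := A.comm_of ha A.z_cen

theorem z_comm_K {k : G} (hk : k ∈ centralizer (A.L : Set G)) : k * A.z = A.z * k :=
  (A.comm_of A.z_mem hk).symm

theorem z_inv : A.z⁻¹ = A.z := inv_eq_of_mul_eq_one_right A.z_sq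

/-- Elements centralising the involution normalise the cover. -/
theorem norm_L {n : G} (hn : n * A.z = A.z * n) {a : G} (ha : a ∈ A.L) : n * a * n⁻¹ ∈ A.L := by
  obtain ⟨b, hb, c, hc, rfl⟩ := A.fac n hn
  have : c * a * c⁻¹ = a := by rw [← A.comm_of ha hc, mul_inv_cancel_right]
  rw [show b * c * a * (b * c)⁻¹ = b * (c * a * c⁻¹) * b⁻¹ by group, this]
  exact mul_mem (mul_mem hb ha) (inv_mem hb)

/-- Elements centralising the involution normalise the centraliser of the cover. -/
theorem norm_K {n : G} (hn : n * A.z = A.z * n) {k : G} (hk : k ∈ centralizer (A.L : Set G)) :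
    n * k * n⁻¹ ∈ centralizer (A.L : Set G) := by
  refine mem_centralizer_iff.2 fun a ha => ?_
  have hn' : n⁻¹ * A.z = A.z * n⁻¹ := (show Commute n A.z from hn).inv_left
  have h := A.norm_L hn' ha
  rw [inv_inv] at h
  calc a * (n * k * n⁻¹) = n * (n⁻¹ * a * n * k) * n⁻¹ := by group
    _ = n * (k * (n⁻¹ * a * n)) * n⁻¹ := by rw [A.comm_of h hk]
    _ = _ := by group

/-- The odd elements of the cover commuting with an element up to the centre commute with it. -/
theorem comm_of_odd {a x : G} (hodd : Odd (orderOf a)) (ha : a ∈ A.L) (h : x * a * x⁻¹ = a * A.z) : False := by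
  have hc : Commute a A.z := A.z_comm_L ha
  have h1 : (a * A.z) ^ orderOf a = 1 := by
    rw [← h, conj_pow, pow_orderOf_eq_one, mul_one, mul_inv_cancel]
  obtain ⟨m, hm⟩ := hodd
  rw [hc.mul_pow, pow_orderOf_eq_one, one_mul, hm, pow_succ, pow_mul, pow_two, A.z_sq, one_pow, one_mul] at h1
  exact A.z_ne h1

end Cov

section PairSection

variable (A B : Cov G) (hne : A.z ≠ B.z) (hc : A.z * B.z = B.z * A.z) (hd : Apart A B)

/-- The centraliser of both involutions. -/
def both : Subgroup G := centralizer ({A.z} : Set G) ⊓ centralizer ({B.z} : Set G)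

theorem mem_both {A B : Cov G} {u : G} : u ∈ both A B ↔ u * A.z = A.z * u ∧ u * B.z = B.z * u := by
  simp [both, mem_centralizer_singleton_iff]

/-- The centraliser of the second cover inside the centraliser of both involutions. -/
def RU : Subgroup ↥(both A B) := (centralizer (B.L : Set G)).subgroupOf (both A B)

instance : (RU A B).Normal := ⟨fun _ hx g => B.norm_K (mem_both.1 g.2).2 hx⟩

theorem card_image [Finite G] {U : Subgroup G} (R : Subgroup U) [R.Normal] {X : Subgroup G} (hX : X ≤ U) :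
    Nat.card ↥X = Nat.card ↥((X.subgroupOf U).map (QuotientGroup.mk' R)) * Nat.card ↥(R ⊓ X.subgroupOf U) := by
  rw [← Nat.card_congr (subgroupOfEquivOfLe hX).toEquiv, ← Subgroup.relIndex_ker (f := QuotientGroup.mk' R) (K := X.subgroupOf U),
    QuotientGroup.ker_mk', ← inf_relIndex_right, Subgroup.relIndex, mul_comm,
    ← Nat.card_congr (subgroupOfEquivOfLe (inf_le_right : R ⊓ X.subgroupOf U ≤ X.subgroupOf U)).toEquiv]
  exact (Subgroup.card_mul_index _).symm

include hne hc hd

/-- The first involution has a component in the second cover outside its centre. -/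
theorem exists_comp : ∃ l ∈ B.L, ∃ k ∈ centralizer (B.L : Set G), A.z = l * k ∧ l ≠ 1 ∧ l ≠ B.z ∧
    (l * l = 1 ∨ l * l = B.z) := by
  obtain ⟨l, hl, k, hk, e⟩ := B.fac A.z hc
  refine ⟨l, hl, k, hk, e, fun h => ?_, fun h => ?_, ?_⟩
  · exact A.z_ne (hd _ A.z_cen (by rw [e, h, one_mul]; exact hk) A.z_sq)
  · exact A.z_ne (hd _ A.z_cen (by rw [e, h]; exact mul_mem B.z_cen hk) A.z_sq)
  · have h2 : l * l * (k * k) = 1 := by
      rw [← A.z_sq, e, show l * k * (l * k) = l * (k * l) * k by group, ← B.comm_of hl hk]; group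
    refine B.inter _ (mul_mem hl hl) ?_
    rw [eq_inv_of_mul_eq_one_left h2]
    exact inv_mem (mul_mem hk hk)

variable [Finite G]

omit [Finite G] in
theorem le_both : A.L ⊓ centralizer ({B.z} : Set G) ≤ both A B ∧
    B.L ⊓ centralizer ({A.z} : Set G) ≤ both A B :=
  ⟨fun _ ha => mem_both.2 ⟨A.z_comm_L ha.1, mem_centralizer_singleton_iff.1 ha.2⟩,
    fun _ ha => mem_both.2 ⟨mem_centralizer_singleton_iff.1 ha.2, B.z_comm_L ha.1⟩⟩

/-- The odd part of the quotient. -/
theorem ordCompl_quot : ordCompl[2] (Nat.card (↥(both A B) ⧸ RU A B)) ∣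
    ordCompl[2] (Nat.card ↥(B.L ⊓ centralizer ({A.z} : Set G))) := by
  obtain ⟨l', hl', k', hk', ez', -, -, -⟩ := exists_comp A B hne hc hd
  have hleB : B.L ⊓ centralizer ({A.z} : Set G) ≤ both A B := (le_both A B hne hc hd).2
  set π := QuotientGroup.mk' (RU A B)
  -- the quotient by the image of the second cover has exponent two
  set M := ((B.L ⊓ centralizer ({A.z} : Set G)).subgroupOf (both A B)).map π
  haveI hMn : M.Normal := by
    refine Subgroup.Normal.map ⟨fun x hx g => ?_⟩ π (QuotientGroup.mk'_surjective _)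
    obtain ⟨hgA, hgB⟩ := mem_both.1 g.2
    obtain ⟨hxL, hxA⟩ := mem_inf.1 hx
    refine mem_inf.2 ⟨B.norm_L hgB hxL, mem_centralizer_singleton_iff.2 ?_⟩
    exact ((show Commute (g : G) A.z from hgA).mul_left (mem_centralizer_singleton_iff.1 hxA)).mul_left
      (show Commute (g : G) A.z from hgA).inv_left
  have hsq : ∀ q : ↥(both A B) ⧸ (RU A B), q ^ 2 ∈ M := by
    intro q
    obtain ⟨u, rfl⟩ := QuotientGroup.mk'_surjective (RU A B) q
    obtain ⟨huA, huB⟩ := mem_both.1 u.2
    obtain ⟨a, ha, c, hcK, eu⟩ := B.fac u huB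
    -- the commutator of the components is central
    have hal : a⁻¹ * l' * a * l'⁻¹ ∈ centralizer (B.L : Set G) := by
      have hk1 : c⁻¹ * k' * c * k'⁻¹ ∈ centralizer (B.L : Set G) :=
        mul_mem (mul_mem (mul_mem (inv_mem hcK) hk') hcK) (inv_mem hk')
      have h : (u : G)⁻¹ * A.z * u * A.z⁻¹ = 1 := by
        rw [show (u : G)⁻¹ * A.z * u = A.z by rw [mul_assoc, ← huA, ← mul_assoc, inv_mul_cancel, one_mul],
          mul_inv_cancel]
      have e1 : (u : G)⁻¹ * A.z * u * A.z⁻¹ = (a⁻¹ * l' * a * l'⁻¹) * (c⁻¹ * k' * c * k'⁻¹) := by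
        have h1 : Commute c a := (B.comm_of ha hcK).symm
        have h2 : Commute c l' := (B.comm_of hl' hcK).symm
        have h3 : Commute k' a := (B.comm_of ha hk').symm
        have h4 : Commute k' l' := (B.comm_of hl' hk').symm
        have g2 : Commute c (a⁻¹ * l' * a) := (h1.inv_right.mul_right h2).mul_right h1
        have g4 : Commute k' (a⁻¹ * l' * a) := (h3.inv_right.mul_right h4).mul_right h3
        have g3 : Commute (c⁻¹ * k' * c * k'⁻¹) l'⁻¹ :=
          (((h2.inv_left.mul_left h4).mul_left h2).mul_left h4.inv_left).inv_right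
        calc (u : G)⁻¹ * A.z * u * A.z⁻¹ = c⁻¹ * a⁻¹ * (l' * k') * (a * c) * (k'⁻¹ * l'⁻¹) := by
              rw [eu, ez']; group
          _ = c⁻¹ * (a⁻¹ * l' * (k' * a)) * c * k'⁻¹ * l'⁻¹ := by group
          _ = c⁻¹ * ((a⁻¹ * l' * a) * k') * c * k'⁻¹ * l'⁻¹ := by rw [h3.eq]; group
          _ = (a⁻¹ * l' * a) * ((c⁻¹ * k' * c * k'⁻¹) * l'⁻¹) := by
              rw [← mul_assoc c⁻¹, g2.inv_left.eq]; group
          _ = _ := by rw [g3.eq]; group
      rw [eq_inv_of_mul_eq_one_left (e1.symm.trans h)]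
      exact inv_mem hk1
    have hcomm : a⁻¹ * l' * a * l'⁻¹ = 1 ∨ a⁻¹ * l' * a * l'⁻¹ = B.z :=
      B.inter _ (mul_mem (mul_mem (mul_mem (inv_mem ha) hl') ha) (inv_mem hl')) hal
    have h2 : (a * a) * l' = l' * (a * a) := by
      have hzl : Commute B.z a := (B.z_comm_L ha).symm
      rcases hcomm with h | h
      · have : Commute a l' := by
          have h := mul_inv_eq_one.1 h
          rw [mul_assoc, inv_mul_eq_iff_eq_mul] at h
          exact h.symm
        exact this.mul_left this
      · have h' : l' * a = a * B.z * l' := by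
          rw [mul_inv_eq_iff_eq_mul, mul_assoc, inv_mul_eq_iff_eq_mul, ← mul_assoc] at h
          exact h
        calc a * a * l' = a * a * (B.z * B.z) * l' := by rw [B.z_sq, mul_one]
          _ = a * (a * B.z) * B.z * l' := by group
          _ = a * B.z * a * B.z * l' := by rw [mul_assoc a B.z a, hzl.eq, mul_assoc]
          _ = a * B.z * (l' * a) := by rw [h']; group
          _ = (a * B.z * l') * a := by group
          _ = _ := by rw [← h', mul_assoc]
    have haM : a * a ∈ B.L ⊓ centralizer ({A.z} : Set G) := by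
      refine ⟨mul_mem ha ha, mem_centralizer_singleton_iff.2 ?_⟩
      rw [ez']
      exact (show Commute (a * a) l' from h2).mul_right (B.comm_of (mul_mem ha ha) hk')
    refine ⟨⟨a * a, hleB haM⟩, haM, ?_⟩
    rw [← map_pow]
    refine (QuotientGroup.eq.2 ?_)
    rw [RU, mem_subgroupOf]
    show (a * a)⁻¹ * ((u : G) ^ 2) ∈ centralizer (B.L : Set G)
    rw [eu, (show Commute a c from B.comm_of ha hcK).mul_pow, pow_two, inv_mul_cancel_left]
    exact pow_mem hcK 2
  obtain ⟨d, hd1⟩ : ∃ d, Nat.card ↥(B.L ⊓ centralizer ({A.z} : Set G)) = Nat.card M * d :=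
    ⟨_, card_image (RU A B) hleB⟩
  
  have hi : ordCompl[2] M.index = 1 := by
    have hp : IsPGroup 2 ((↥(both A B) ⧸ RU A B) ⧸ M) := fun q => by
      obtain ⟨q, rfl⟩ := QuotientGroup.mk'_surjective M q
      exact ⟨1, (map_pow _ q _).symm.trans ((QuotientGroup.eq_one_iff _).2 (by simpa using hsq q))⟩
    obtain ⟨i, hi⟩ := IsPGroup.iff_card.1 hp
    rw [Subgroup.index, hi, Nat.ordCompl_self_pow Nat.prime_two]
  rw [← M.card_mul_index, Nat.ordCompl_mul, hi, mul_one, hd1]
  exact Nat.ordCompl_dvd_ordCompl_of_dvd (dvd_mul_right _ _) 2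

/-- The kernel in the first cover is a 2-group. -/
theorem ordCompl_image : ordCompl[2] (Nat.card ↥(A.L ⊓ centralizer ({B.z} : Set G))) =
    ordCompl[2] (Nat.card ↥(((A.L ⊓ centralizer ({B.z} : Set G)).subgroupOf (both A B)).map
      (QuotientGroup.mk' (RU A B)))) := by
  have hd1 := card_image (RU A B) (le_both A B hne hc hd).1
  obtain ⟨l0, hl0, k0, hk0, ez0, hl1, hlz, hl2⟩ := exists_comp B A hne.symm hc.symm hd.symm
  let D : Subgroup G := (RU A B ⊓ (A.L ⊓ centralizer ({B.z} : Set G)).subgroupOf (both A B)).map (both A B).subtype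
  have memD : ∀ n ∈ D, n ∈ A.L ∧ n * B.z = B.z * n ∧ n ∈ centralizer (B.L : Set G) := by
    rintro _ ⟨n, ⟨hn1, hn2⟩, rfl⟩
    exact ⟨hn2.1, mem_centralizer_singleton_iff.1 hn2.2, hn1⟩
  have hD : IsPGroup 2 D := by
    rw [IsPGroup.iff_orderOf]
    intro n
    obtain ⟨i, m, hm, he⟩ := Nat.exists_eq_two_pow_mul_odd (orderOf_pos n).ne'
    refine ⟨i, he.trans ?_⟩
    suffices (n : G) ^ 2 ^ i = 1 by
      have h1 : orderOf n ∣ 2 ^ i := orderOf_dvd_of_pow_eq_one (Subtype.ext this)
      rw [he] at h1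
      have := Nat.eq_one_of_dvd_coprimes ((Nat.coprime_two_left.2 hm).pow_left i) ((dvd_mul_left m _).trans h1) dvd_rfl
      rw [this, mul_one]
    refine A.f_odd l0 hl0 hl1 hlz hl2 D (fun x hx => (memD x hx).1) (fun x hx => ?_) (fun w hw hwl x hx => ?_)
      (fun hz => A.z_ne (hd _ A.z_cen (memD _ hz).2.2 A.z_sq)) _ (pow_mem n.2 _) ?_
    · obtain ⟨h1, h2, -⟩ := memD x hx
      rw [ez0, ← mul_assoc, mul_assoc l0, ← A.comm_of h1 hk0, ← mul_assoc] at h2
      exact mul_right_cancel h2
    · have hwz : w * B.z = B.z * w := by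
        rw [ez0]; exact (show Commute w l0 from hwl).mul_right (A.comm_of hw hk0)
      obtain ⟨h1, h2, h3⟩ := memD x hx
      have hwU : w ∈ both A B := mem_both.2 ⟨A.z_comm_L hw, hwz⟩
      have hxU : x ∈ both A B := mem_both.2 ⟨A.z_comm_L h1, h2⟩
      refine ⟨⟨w, hwU⟩ * ⟨x, hxU⟩ * ⟨w, hwU⟩⁻¹, ⟨B.norm_K hwz h3, ?_, ?_⟩, rfl⟩
      · exact A.L.mul_mem (A.L.mul_mem hw h1) (A.L.inv_mem hw)
      · exact mem_centralizer_singleton_iff.2 (((show Commute w B.z from hwz).mul_left h2).mul_left
          (show Commute w B.z from hwz).inv_left)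
    · rw [orderOf_pow, Subgroup.orderOf_coe, he]
      rw [Nat.gcd_eq_right (dvd_mul_right _ _), Nat.mul_div_cancel_left _ (by positivity)]
      exact hm
  obtain ⟨i, hi⟩ := IsPGroup.iff_card.1 hD
  rw [card_map_of_injective (both A B).subtype_injective] at hi
  rw [hd1, Nat.ordCompl_mul, hi, Nat.ordCompl_self_pow Nat.prime_two, mul_one]


/-- The odd parts of the centralisers in the two covers. -/
theorem ordCompl_le : ordCompl[2] (Nat.card ↥(A.L ⊓ centralizer ({B.z} : Set G))) ∣
    ordCompl[2] (Nat.card ↥(B.L ⊓ centralizer ({A.z} : Set G))) := by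
  rw [ordCompl_image A B hne hc hd]
  exact (Nat.ordCompl_dvd_ordCompl_of_dvd (Subgroup.card_subgroup_dvd_card _) 2).trans (ordCompl_quot A B hne hc hd)

/-- Odd elements of the second cover commuting with the first involution commute with the elements of the
centraliser of the first cover commuting with the second involution. -/
theorem odd_comm {a r : G} (ha : a ∈ B.L) (haA : a * A.z = A.z * a) (hodd : Odd (orderOf a))
    (hr : r ∈ centralizer (A.L : Set G)) (hrB : r * B.z = B.z * r) : a * r = r * a := by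
  set R := RU A B with hR
  set π := QuotientGroup.mk' R
  set M := ((A.L ⊓ centralizer ({B.z} : Set G)).subgroupOf (both A B)).map π
  haveI hMn : M.Normal := by
    refine Subgroup.Normal.map ⟨fun x hx g => ?_⟩ π (QuotientGroup.mk'_surjective _)
    obtain ⟨hgA, hgB⟩ := mem_both.1 g.2
    obtain ⟨hxL, hxA⟩ := mem_inf.1 hx
    refine mem_inf.2 ⟨A.norm_L hgA hxL, mem_centralizer_singleton_iff.2 ?_⟩
    exact ((show Commute (g : G) B.z from hgB).mul_left (mem_centralizer_singleton_iff.1 hxA)).mul_left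
      (show Commute (g : G) B.z from hgB).inv_left
  have h1 := ordCompl_quot A B hne hc hd
  have h2 := ordCompl_image A B hne hc hd
  have h3 := ordCompl_le B A hne.symm hc.symm hd.symm
  have hidx : ordCompl[2] M.index = 1 := by
    have h4 : ordCompl[2] (Nat.card M) * ordCompl[2] M.index ∣ ordCompl[2] (Nat.card M) := by
      rw [← Nat.ordCompl_mul, M.card_mul_index]; exact h1.trans (h3.trans h2.dvd)
    exact Nat.dvd_one.1 (Nat.dvd_of_mul_dvd_mul_left (Nat.ordCompl_pos 2 Nat.card_pos.ne')
      (by rwa [mul_one]))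
  let au : ↥(both A B) := ⟨a, mem_both.2 ⟨haA, B.z_comm_L ha⟩⟩
  have haM : π au ∈ M := by
    rw [← QuotientGroup.eq_one_iff]
    refine orderOf_eq_one_iff.1 ?_
    have d1 : orderOf ((π au : ↥(both A B) ⧸ R) : (↥(both A B) ⧸ R) ⧸ M) ∣ orderOf a :=
      (orderOf_map_dvd (QuotientGroup.mk' M) _).trans ((orderOf_map_dvd π au).trans
        (by rw [← Subgroup.orderOf_coe]))
    have d2 : orderOf ((π au : ↥(both A B) ⧸ R) : (↥(both A B) ⧸ R) ⧸ M) ∣ M.index := orderOf_dvd_natCard _
    have hm : ¬ 2 ∣ orderOf ((π au : ↥(both A B) ⧸ R) : (↥(both A B) ⧸ R) ⧸ M) :=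
      fun h => hodd.not_two_dvd_nat (h.trans d1)
    have := Nat.ordCompl_dvd_ordCompl_of_dvd d2 2
    rw [hidx, Nat.factorization_eq_zero_of_not_dvd hm, pow_zero, Nat.div_one] at this
    exact Nat.dvd_one.1 this
  obtain ⟨h, hh, he⟩ := haM
  have hk1 : (h : G)⁻¹ * a ∈ centralizer (B.L : Set G) := by
    have := QuotientGroup.eq.1 he
    exact this
  have hrh : r * (h : G) = (h : G) * r := ((A.comm_of hh.1 hr)).symm
  -- the commutator is in the centre
  set c := r * a * r⁻¹ * a⁻¹ with hc'
  have hcL : c ∈ B.L := mul_mem (B.norm_L hrB ha) (inv_mem ha)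
  have hcK : c ∈ centralizer (B.L : Set G) := by
    have e1 : c = (h : G) * (r * ((h : G)⁻¹ * a) * r⁻¹ * ((h : G)⁻¹ * a)⁻¹) * (h : G)⁻¹ := by
      have hri : r * (h : G)⁻¹ = (h : G)⁻¹ * r := (show Commute r (h : G) from hrh).inv_right
      rw [hc', ← mul_assoc r (h : G)⁻¹, hri]
      group
    rw [e1]
    exact B.norm_K (mem_both.1 h.2).2 (mul_mem (B.norm_K hrB hk1) (inv_mem hk1))
  rcases B.inter c hcL hcK with h0 | h0
  · rw [hc', mul_inv_eq_one, mul_inv_eq_iff_eq_mul] at h0
    exact h0.symm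
  · exfalso
    refine B.comm_of_odd (x := r) hodd ha ?_
    rw [hc', mul_inv_eq_iff_eq_mul] at h0
    rw [h0, B.z_comm_L ha]

/-- **No further 2-element.** -/
theorem two_element {r : G} (hr : r ∈ centralizer (A.L : Set G)) (hrB : r * B.z = B.z * r) {i : ℕ}
    (hri : r ^ 2 ^ i = 1) : r = 1 ∨ r = A.z := by
  obtain ⟨l', hl', k', hk', ez', hl1, hlz, hl2⟩ := exists_comp A B hne hc hd
  have key : ∀ s ∈ centralizer (A.L : Set G), s * B.z = B.z * s → (s * s = 1 ∨ s * s = A.z) →
      s = 1 ∨ s = A.z := by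
    intro s hs hsB hs2
    by_contra hn
    push Not at hn
    obtain ⟨e, he, k, hk, es⟩ := B.fac s hsB
    have hsA : s * A.z = A.z * s := A.z_comm_K hs
    -- it is none of the four central multiples
    have bad : ∀ w : G, w ∈ centralizer (B.L : Set G) → w ∈ centralizer (A.L : Set G) →
        (w * w = 1 ∨ w * w = A.z) → w = 1 := by
      intro w hwB hwA hw2
      rcases hw2 with h | h
      · exact hd w hwA hwB h
      · exact absurd (hd _ A.z_cen (h ▸ mul_mem hwB hwB) A.z_sq) A.z_ne
    have e1 : e ≠ 1 ∧ e ≠ B.z := by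
      constructor <;> intro h <;> refine hn.1 (bad s ?_ hs hs2) <;> rw [es, h]
      · rw [one_mul]; exact hk
      · exact mul_mem B.z_cen hk
    have e2 : e ≠ l' ∧ e ≠ l' * B.z := by
      have hsz : s * A.z * (s * A.z) = s * s := by
        rw [show s * A.z * (s * A.z) = s * (A.z * s) * A.z by group, ← hsA,
          show s * (s * A.z) * A.z = s * s * (A.z * A.z) by group, A.z_sq, mul_one]
      have hw : ∀ d : G, d ∈ centralizer (B.L : Set G) → s = l' * d → s * A.z = 1 := by
        intro d hd' h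
        refine bad _ ?_ (mul_mem hs A.z_cen) (hsz ▸ hs2)
        have hzl : A.z = k'⁻¹ * l'⁻¹ := by rw [← A.z_inv, ez', mul_inv_rev]
        rw [hzl, h, show l' * d * (k'⁻¹ * l'⁻¹) = l' * (d * k'⁻¹) * l'⁻¹ by group]
        exact B.norm_K (B.z_comm_L hl') (mul_mem hd' (inv_mem hk'))
      constructor <;> intro h <;> apply hn.2 <;> rw [← A.z_inv] <;> refine eq_inv_of_mul_eq_one_left ?_
      · exact hw k hk (by rw [es, h])
      · exact hw (B.z * k) (mul_mem B.z_cen hk) (by rw [es, h, mul_assoc])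
    have hel : e * l' = l' * e ∨ e * l' = l' * e * B.z := by
      have hK : (l' * e)⁻¹ * (e * l') ∈ centralizer (B.L : Set G) := by
        have h : e * l' * (k * k') = l' * e * (k' * k) := by
          calc e * l' * (k * k') = e * (l' * k) * k' := by group
            _ = e * (k * l') * k' := by rw [B.comm_of hl' hk]
            _ = s * A.z := by rw [es, ez']; group
            _ = A.z * s := hsA
            _ = l' * (k' * e) * k := by rw [es, ez']; group
            _ = l' * (e * k') * k := by rw [B.comm_of he hk']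
            _ = _ := by group
        rw [show (l' * e)⁻¹ * (e * l') = (k' * k) * (k * k')⁻¹ by
          rw [eq_mul_inv_iff_mul_eq, mul_assoc, h, inv_mul_cancel_left]]
        exact mul_mem (mul_mem hk' hk) (inv_mem (mul_mem hk hk'))
      rcases B.inter _ (mul_mem (inv_mem (mul_mem hl' he)) (mul_mem he hl')) hK with h | h
      · exact Or.inl (inv_mul_eq_one.1 h).symm
      · exact Or.inr (inv_mul_eq_iff_eq_mul.1 h)
    have hcom : ∀ a ∈ B.L, Odd (orderOf a) → a * l' = l' * a → a * e = e * a := by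
      intro a ha hao hal
      have haA : a * A.z = A.z * a := by
        rw [ez']; exact (show Commute a l' from hal).mul_right (B.comm_of ha hk')
      have h := odd_comm A B hne hc hd ha haA hao hs hsB
      rw [es, ← mul_assoc, mul_assoc e, ← B.comm_of ha hk, ← mul_assoc] at h
      exact mul_right_cancel h
    obtain ⟨⟨q1, q2⟩, u, hu, hue, hul⟩ :=
      B.f_comm l' hl' hl1 hlz hl2 e he hel hcom e1.1 e1.2 e2.1 e2.2
    rcases hs2 with h2 | h2
    · have hus : u * s = s * u := by
        rw [es]; exact (show Commute u e from hue).mul_right (B.comm_of hu hk)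
      have huz := A.tight s hs h2 hn.1 u hus
      rw [ez', ← mul_assoc, mul_assoc l', ← B.comm_of hu hk', ← mul_assoc] at huz
      exact hul (mul_right_cancel huz)
    · have hee : e * e * (k * k) = l' * k' := by
        rw [← ez', ← h2, es, show e * k * (e * k) = e * (k * e) * k by group, ← B.comm_of he hk]; group
      have hK : l'⁻¹ * (e * e) ∈ centralizer (B.L : Set G) := by
        rw [show l'⁻¹ * (e * e) = k' * (k * k)⁻¹ by
          rw [eq_mul_inv_iff_mul_eq, mul_assoc, hee, inv_mul_cancel_left]]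
        exact mul_mem hk' (inv_mem (mul_mem hk hk))
      rcases B.inter _ (mul_mem (inv_mem hl') (mul_mem he he)) hK with h | h
      · exact q1 (inv_mul_eq_one.1 h).symm
      · exact q2 (inv_mul_eq_iff_eq_mul.1 h)
  induction i generalizing r with
  | zero => left; simpa using hri
  | succ i ih =>
    rcases ih (r := r * r) (mul_mem hr hr) ((show Commute r B.z from hrB).mul_left hrB) (by
      rw [← pow_two, ← pow_mul, ← pow_succ']; exact hri) with h | h
    · exact key r hr hrB (Or.inl h)
    · exact key r hr hrB (Or.inr h)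

end PairSection

end Cfsg.Lib.SpSixStd
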